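import Cfsg.Agent.Lib.S36.Id

/-!
# Computations in the tensor product module
-/

set_option autoImplicit false
set_option synthInstance.maxSize 2000

namespace Cfsg.Lib.S36

open Subgroup QuadraticMap Cfsg.Lib.Orth Cfsg.Lib.U6 Equiv Equiv.Perm

attribute [local instance 2000] List.decidableBAll List.decidableBEx

variable {τ : P3} {σ : P6} {a x y : W} {v : W × W}

/-- The involution of `S₃` fixing the first summand. -/
def ka : P3 := swap 0 2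

theorem Mo_ka (σ : P6) (x y : W) : (Mo (ka, σ)).1 (x, y) = (ac σ (x + y), ac σ y) := rfl

theorem tau_of (h : a ≠ 0) (e : ((Mo (τ, σ)).1 (a, 0)).2 = 0) : τ = 1 ∨ τ = ka := by
  refine (by decide : ∀ τ : P3, τ.symm 1 = 1 → τ = 1 ∨ τ = ka) τ ?_
  have : tr (a, 0) (τ.symm 1) = 0 := ac_eq_zero.1 e
  generalize τ.symm 1 = i at this
  fin_cases i <;> simp_all [tr]

theorem fix_p (h : a ≠ 0) (e : (Mo (τ, σ)).1 (a, 0) = (a, 0)) : (τ = 1 ∨ τ = ka) ∧ ac σ a = a := by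
  rcases tau_of h (congrArg Prod.snd e) with rfl | rfl
  exacts [⟨Or.inl rfl, congrArg Prod.fst e⟩, ⟨Or.inr rfl, by simpa [Mo_ka] using congrArg Prod.fst e⟩]

theorem fix_P (h : a ≠ 0) (e : (Mo (τ, σ)).1 (a, 0) = (a, 0)) (e' : (Mo (τ, σ)).1 (0, a) = (0, a)) :
    τ = 1 ∧ ac σ a = a :=
  (fix_p h e).imp_left fun k => k.resolve_right fun k => h (by simpa [k, Mo_ka, ac_eq_zero] using congrArg Prod.fst e')

theorem ac_faith (h : ∀ x, ac σ x = x) : σ = 1 :=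
  inv_eq_one.1 (Equiv.ext (Sw.all (P := fun f => acf f a0 = a0 → acf f (w 1 0 0 0) = w 1 0 0 0 →
    acf f (w 0 1 0 0) = w 0 1 0 0 → acf f (w 0 0 1 0) = w 0 0 1 0 → ∀ i, f i = i) (by decide +kernel) σ.symm
    (h _) (h _) (h _) (h _)))

theorem Mo_inj : Function.Injective Mo := (injective_iff_map_eq_one _).2 fun ⟨τ, σ⟩ h => by
  obtain rfl := (fix_P a0_ne (by rw [h]; rfl) (by rw [h]; rfl) : τ = 1 ∧ ac σ a0 = a0).1
  exact Prod.ext rfl (ac_faith fun x => congrArg (fun g : O q1 => (g.1 (x, x)).1) h)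

/-- Representatives of the classes of involutions which are not transvections. -/
def rp : List (P3 × P6) :=
  [(1, v1), (1, v1.1 * swap 4 5), (ka, 1), (ka, swap 4 5), (ka, v1), (ka, v1.1 * swap 4 5)]

/-- The commutator map. -/
def cm (x : P3 × P6) (v : W × W) : W × W := mo x.1.symm x.2.symm v + v

theorem exists_rp {x : P3 × P6} (h : x * x = 1) (h1 : x ≠ 1) :
    ∃ y, y * x * y⁻¹ = (1, swap 4 5) ∨ y * x * y⁻¹ ∈ rp := by
  obtain ⟨t, e⟩ := (by decide : ∀ τ : P3, τ * τ = 1 → ∃ t, t * τ * t⁻¹ = 1 ∨ t * τ * t⁻¹ = ka) x.1 (congrArg Prod.fst h)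
  obtain ⟨g, e'⟩ := invol x.2 (congrArg Prod.snd h)
  have n : ((t, g.1) * x * (t, g.1)⁻¹ : P3 × P6) ≠ 1 := mt conj_eq_one_iff.1 h1
  refine ⟨(t, g), ?_⟩
  change (t * x.1 * t⁻¹, g.1 * x.2 * g.1⁻¹) ≠ 1 at n
  change (t * x.1 * t⁻¹, g.1 * x.2 * g.1⁻¹) = _ ∨ (t * x.1 * t⁻¹, g.1 * x.2 * g.1⁻¹) ∈ _
  simp only [List.mem_cons, List.not_mem_nil, or_false] at e'
  rcases e with e | e <;> rcases e' with e' | e' | e' | e' <;> simp_all [rp]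

theorem rp1 : ∀ x ∈ rp, ∀ a b, mo x.1.symm x.2.symm (a, b) = (a, b) → cm x (b, a + b) = (a, b) ∨
    ∃ a' ∈ [0, w 1 0 1 0, w 1 0 0 0, w 0 0 1 0], ∃ b' ∈ [0, w 1 0 1 0, w 1 0 0 0, w 0 0 1 0],
      cm x (a', b') = (a, b) := by decide +kernel

theorem rp2 : ∀ x ∈ rp, be (cm x (0, w 1 0 0 0)).1 (cm x (0, w 1 0 0 0)).2 ≠ 0 ∨ ∀ a b, cm x (a, b) ≠ 0 →
    ∃ h ∈ [(1, sw 0 2 1 3), (c0, 1), (1, sw 2 4 3 5), (1, sw 0 1 2 3 * sw 3 4 4 5), (1, sw 0 2 1 3 * sw 2 4 3 5)],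
      (h.1, h.2.1) * x = x * (h.1, h.2.1) ∧ sign h.1 = 1 ∧ cm x (a, b) ≠ mo h.1.symm h.2.1.symm (cm x (a, b)) ∧
      be a (mo h.1.symm h.2.1.symm (cm x (a, b))).2 + be b (mo h.1.symm h.2.1.symm (cm x (a, b))).1 = 0 := by
  decide +kernel

theorem rp3 : ∀ x ∈ rp, cm x (w 1 0 1 0, 0) = (a0, 0) ∨ cm x (0, a0) = (a0, 0) := by decide +kernel

/-- The elements fixing the singular commutators of an involution. -/
def l12 : List (P3 × P6) := [(1, 1), (1, swap 4 5), (1, swap 2 3), (1, swap 2 3 * swap 4 5), (1, swap 0 1),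
  (1, swap 0 1 * swap 4 5), (1, v1), (1, v1.1 * swap 4 5), (ka, 1), (ka, swap 4 5), (ka, v1), (ka, v1.1 * swap 4 5)]

theorem rp4 : Sw fun f => acf f a0 = a0 → ∀ τ ∈ [1, ka], ∀ x ∈ rp,
    (∀ v ∈ [(w 1 0 0 0, w 1 0 1 0), (0, w 1 1 0 0), (0, w 1 0 1 0)], be (cm x v).1 (cm x v).2 = 0 →
      mo τ.symm f (cm x v) = cm x v) → ∃ y ∈ l12, y.1 = τ ∧ ∀ i, f i = y.2.symm i := by decide +kernel

/-- The involutions commuting with a transvection. -/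
def l20 : List (P3 × P6) := ([1, swap 2 3, swap 1 2, swap 1 3, swap 0 1, swap 0 1 * swap 2 3, swap 0 2,
  swap 0 2 * swap 1 3, swap 0 3, swap 0 3 * swap 1 2] : List P6).flatMap fun g => [(1, g), (1, g * swap 4 5)]

theorem rp5 : Sw fun f => acf f a0 = a0 → ((∀ i, f (f i) = i) ∨ ∀ i, f (f i) = swap 4 5 i) →
    ∃ y ∈ l20, y.1 = 1 ∧ ∀ i, f i = y.2.symm i := by decide +kernel

theorem tv_facts : ∀ a b : W, cm (1, swap 4 5) (a, b) ∈ [0, (a0, 0), (0, a0), (a0, a0)] := by decide +kernel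

theorem pr1 : ∀ τ : P3, τ * τ = 1 → τ * (c0 * τ * c0⁻¹)⁻¹ * (τ * (c0 * τ * c0⁻¹)⁻¹) = 1 → τ = 1 := by decide
theorem pr2 : ∀ x : W, be a0 x = 0 → be b0 x = 0 → x ∈ [0, a0, b0, a0 + b0] := by decide +kernel
theorem pr3 : Sw fun f => acf f a0 = a0 → (∀ i, f (f i) = i) →
    (∀ i, f (k1.1 (f (k1.1⁻¹ (f (k1.1 (f (k1.1⁻¹ i))))))) = i) → (∀ i, f i = i) ∨ (∀ i, f i = swap 4 5 i) ∨
      ∃ y ∈ [b0, w 1 0 1 0], be a0 y = 0 ∧ acf f y + y = a0 := by decide +kernel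
theorem pr4 : ∀ x : W, be a0 x = 0 → ∀ y, be a0 y = 0 → be x y = 0 → y ∉ [0, a0] → x ∈ [0, a0] ∨ x + y ∈ [0, a0] := by
  decide +kernel
theorem pr5 : ∀ y : W, be a0 y = 0 → y ∉ [0, a0] → ∀ y', be a0 y' = 0 → y' ∉ [0, a0] → ∀ x ∈ [0, a0], ∀ e ∈ [0, a0],
    be x y' + be y (e + y') = 0 → be x (ac k1 y') + be y (ac k1 (e + y')) ≠ 0 := by decide +kernel
theorem pr6 : ∀ y : W, be a0 y = 0 → y ∉ [0, a0] → ∀ x, be a0 x = 0 →
    ∃ i j l : ZMod 2, x = i • a0 + j • y + l • ac k1 y := by decide +kernel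
theorem pr7 : ∀ x : W, ∃ y, be a0 y = 0 ∧ y ∉ [0, a0] ∧ x + y ∉ [0, a0] := by decide +kernel
theorem pr8 : Sw fun f => acf f a0 = a0 → acf f b0 = b0 → acf f (w 1 0 1 0) = w 1 0 1 0 → ∀ b ∉ [0, a0],
    (∀ y, be b y = 0 → acf f y + y = 0 ∨ acf f y + y = b) → ∀ i, f i = i := by decide +kernel

end Cfsg.Lib.S36
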