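import Cfsg.Agent.Lib.S36.Perm

/-!
# Eight-dimensional orthogonal modules of `3 × A₆` over `𝔽₂`: the tensor case
-/

set_option autoImplicit false

namespace Cfsg.Lib.S36

open Subgroup QuadraticMap Cfsg.Lib.Orth Cfsg.Lib.U6 Equiv Equiv.Perm Module

variable {V : Type*} [AddCommGroup V] [Module (ZMod 2) V] {q : QuadraticForm (ZMod 2) V}
  {μ : A6 →* O q} {c t : O q} {v a : V} {σ g : A6}

variable (μ) in
/-- The stabilizer of a vector. -/
def St (v : V) : Subgroup A6 := (MulAction.stabilizer (O q) v).comap μ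

theorem mem_St : σ ∈ St μ v ↔ (μ σ).1 v = v := Iff.rfl
theorem μ_mul (σ τ : A6) (v : V) : (μ (σ * τ)).1 v = (μ σ).1 ((μ τ).1 v) := by rw [map_mul]; rfl
theorem St_map : σ ∈ St μ ((μ g).1 v) ↔ g⁻¹ * σ * g ∈ St μ v := by
  rw [mem_St, mem_St, μ_mul, μ_mul, map_inv, O.inv_apply_eq]
theorem St_add {u : V} (h : σ ∈ St μ u) (h' : σ ∈ St μ v) : σ ∈ St μ (u + v) := by
  rw [mem_St, map_add, mem_St.1 h, mem_St.1 h']
theorem μ_cube (h : σ * σ * σ = 1) : μ σ * μ σ * μ σ = 1 := by rw [← map_mul, ← map_mul, h, map_one]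
theorem μ_comm (h : σ * g = g * σ) : μ σ * μ g = μ g * μ σ := by rw [← map_mul, ← map_mul, h]
theorem k1_cube : k1 * k1 * k1 = 1 := by decide +kernel
theorem k2_cube : k2 * k2 * k2 = 1 := by decide +kernel
theorem kp_cube : kp * kp * kp = 1 := by decide +kernel
theorem k12 : k1 * k2 = k2 * k1 := by decide +kernel

theorem mem_comm3 (h : t * t * t = 1) : v ∈ O.comm t ↔ Pj t v = 0 := by
  refine O.mem_comm.trans ⟨?_, fun k => ⟨t.1 v, by rw [tt k, vsub, add_right_comm, vadd_self, zero_add]⟩⟩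
  rintro ⟨y, rfl⟩
  rw [vsub, map_add, ← Pj_comm rfl, fix_Pj h, vadd_self]

theorem Pj_add (h : t * t * t = 1) (v : V) : Pj t (v + Pj t v) = 0 := by
  rw [map_add, Pj_fix (fix_Pj h v), vadd_self]

variable (μ) in
/-- The normalization of the two classes of elements of order three. -/
def Tw : Prop := ∀ v, k1 * k2 ∈ St μ v → k1 ∈ St μ v

theorem Tw.k2 (h : Tw μ) (e : Pj (μ k1) v = 0) : k2 ∈ St μ v := by
  have c := μ_comm (μ := μ) k12
  have s3 := μ_cube (μ := μ) k1_cube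
  have t3 := μ_cube (μ := μ) k2_cube
  have e1 : Pj (μ k1) (v + Pj (μ S36.k2) v) = 0 := by rw [map_add, Pj_Pj c, e, map_zero, add_zero]
  have e2 := Pj_add t3 v
  have e3 := Pj_dec c s3 e1 e2
  generalize hv : v + Pj (μ S36.k2) v = u at e1 e2 e3
  have f1 : Pj (μ k1 * μ S36.k2) u = 0 := by
    have := h (Pj (μ k1 * μ S36.k2) u) (by rw [mem_St, map_mul]; exact fix_Pj (cube_mul c s3 t3) u)
    rw [← Pj_fix (mem_St.1 this), Pj_Pj (Commute.mul_right rfl c), e1, map_zero]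
  have f2 : Pj (μ k1 * μ k1 * μ S36.k2) u = 0 := by
    have c' : μ k1 * μ k1 * μ S36.k2 = μ S36.k2 * (μ k1 * μ k1) := Commute.mul_left c c
    have := fix_Pj (cube_mul c' (cube_mul rfl s3 s3) t3) u
    rw [← map_mul, ← map_mul, ← mem_St, show k1 * k1 * S36.k2 = j0⁻¹⁻¹ * (k1 * S36.k2) * j0⁻¹ by decide +kernel,
      ← St_map] at this
    have := St_map.1 (h _ this)
    rw [show j0⁻¹⁻¹ * k1 * j0⁻¹ = S36.k2 by decide +kernel, ← show k1 * k1 * S36.k2 = j0⁻¹⁻¹ * (k1 * S36.k2) * j0⁻¹ by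
      decide +kernel, map_mul, map_mul] at this
    rw [← Pj_fix (mem_St.1 this), Pj_Pj (Commute.mul_right (Commute.mul_right c.symm c.symm) rfl), e2, map_zero]
  rw [f1, f2, add_zero, ← hv, vadd_eq_zero] at e3
  rw [mem_St, e3, fix_Pj t3]

theorem exists_fix_step {U : Submodule (ZMod 2) V} (hU : ∀ σ, ∀ v ∈ U, (μ σ).1 v ∈ U) (hv : v ∈ U) (v0 : v ≠ 0)
    (h : σ * σ ∈ St μ v) : ∃ u ∈ U, u ≠ 0 ∧ σ ∈ St μ u ∧ ∀ g ∈ St μ v, σ⁻¹ * g * σ ∈ St μ v → g ∈ St μ u := by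
  by_cases e : σ ∈ St μ v
  · exact ⟨v, hv, v0, e, fun g h _ => h⟩
  refine ⟨_, add_mem (hU σ v hv) hv, fun k => e (vadd_eq_zero.1 k), ?_, fun g h1 h2 => St_add (St_map.2 h2) h1⟩
  rw [mem_St, map_add, ← μ_mul, mem_St.1 h, add_comm]

theorem Tw.exists_fix (h : Tw μ) {U : Submodule (ZMod 2) V} (hU : ∀ σ, ∀ v ∈ U, (μ σ).1 v ∈ U) (hv : v ∈ U)
    (v0 : v ≠ 0) : ∃ a ∈ U, a ≠ 0 ∧ ∀ σ : A6, ac σ a0 = a0 → σ ∈ St μ a := by
  obtain ⟨x, hx, x0, x1, -⟩ := exists_fix_step (σ := v1) hU hv v0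
    ((by decide +kernel : 1 = v1 * v1) ▸ one_mem _)
  obtain ⟨y, hy, y0, y2, y1⟩ := exists_fix_step (σ := v2) hU hx x0
    ((by decide +kernel : 1 = v2 * v2) ▸ one_mem _)
  replace y1 := y1 v1 x1 ((by decide +kernel : v1 = v2⁻¹ * v1 * v2) ▸ x1)
  have y3 := mul_mem y1 y2
  have u1 : v1 ∈ St μ (Pj (μ k1) y) := St_add (St_add y1 (St_map.2 ((by decide +kernel : v2 = k1⁻¹ * v1 * k1) ▸ y2)))
    (St_map.2 (St_map.2 ((by decide +kernel : v1 * v2 = k1⁻¹ * (k1⁻¹ * v1 * k1) * k1) ▸ y3)))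
  have u2 : v2 ∈ St μ (Pj (μ k1) y) := St_add (St_add y2 (St_map.2
    ((by decide +kernel : v1 * v2 = k1⁻¹ * v2 * k1) ▸ y3)))
    (St_map.2 (St_map.2 ((by decide +kernel : v1 = k1⁻¹ * (k1⁻¹ * v2 * k1) * k1) ▸ y1)))
  have u3 : k1 ∈ St μ (Pj (μ k1) y) := fix_Pj (μ_cube k1_cube) y
  obtain ⟨a, ha, a0, a1, a2⟩ := exists_fix_step (σ := n0) hU (v := Pj (μ k1) y)
    (add_mem (add_mem hy (hU _ _ hy)) (hU _ _ (hU _ _ hy)))
    (fun e => y0 ((Pj_fix (genV y1 y2 (h.k2 e))).symm.trans e)) ((by decide +kernel : 1 = n0 * n0) ▸ one_mem _)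
  have k := fun g e4 e5 => gen4 u1 u2 u3 g e4 e5
  exact ⟨a, ha, a0, genS (a2 _ u1 (k _ (by decide) (by decide))) (a2 _ u2 (k _ (by decide) (by decide)))
    (a2 _ u3 (k _ (by decide) (by decide))) a1⟩

theorem a0_ne : a0 ≠ 0 := by decide

theorem emb (ha : ∀ σ : A6, ac σ a0 = a0 → σ ∈ St μ a) (h1 : Pj (μ k2) a = 0) (h2 : Pj (μ kp) a = 0) :
    ∃ φ : W →ₗ[ZMod 2] V, φ a0 = a ∧ (∀ (σ : A6) x, φ (ac σ x) = (μ σ).1 (φ x)) ∧ ∀ x, q (φ x) = 0 := by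
  classical
  let A : W → V := fun x => if h : x = 0 then 0 else (μ (tr1 x h).choose).1 a
  have A0 : A 0 = 0 := dif_pos rfl
  have k : ∀ g : A6, A (ac g a0) = (μ g).1 a := fun g => by
    have n : ac g a0 ≠ 0 := mt ac_eq_zero.1 a0_ne
    have := mem_St.1 (ha (g⁻¹ * (tr1 _ n).choose) (by
      rw [Subgroup.coe_mul, ac_mul, (tr1 _ n).choose_spec]; exact ac_inv _ _))
    rw [μ_mul, map_inv, O.inv_apply_eq] at this
    exact (dif_neg n).trans this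
  have e : ∀ (σ : A6) x, A (ac σ x) = (μ σ).1 (A x) := fun σ x => by
    by_cases h : x = 0
    · rw [h, ac_zero, A0, map_zero]
    obtain ⟨g, rfl⟩ := tr1 x h
    rw [← ac_mul, ← Subgroup.coe_mul, k, k, μ_mul]
  have k0 : A a0 = a := by simpa [ac_one] using k 1
  have add : ∀ x y, A (x + y) = A x + A y := fun x y => by
    by_cases h : x = 0
    · rw [h, A0, zero_add, zero_add]
    obtain ⟨g, rfl⟩ := tr1 x h
    rw [← ac_inv' g y, ← ac_add, e, e, e, ← map_add]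
    generalize ac g.1⁻¹ y = y
    congr 1
    by_cases y0 : y = 0
    · rw [y0, A0, add_zero, add_zero]
    by_cases y1 : y = a0
    · rw [y1, vadd_self, vadd_self, A0]
    have s : ∀ t : A6, a0 + ac t a0 = ac t (ac t a0) → Pj (μ t) a = 0 → ∀ g : A6, ac g a0 = a0 →
        A (a0 + ac g (ac t a0)) = A a0 + A (ac g (ac t a0)) := fun t e1 e2 g e3 => by
      nth_rewrite 1 3 [← e3]
      rw [← ac_add, e1, e, e, e, e, e, e, k0, tt e2, map_add, add_comm]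
    obtain ⟨g, e1, ⟨rfl, -⟩ | ⟨rfl, -⟩⟩ := tr2 y y0 y1
    exacts [s k2 (by decide) h1 g e1, (by decide : ac kp a0 = b0) ▸ s kp (by decide) h2 g e1]
  refine ⟨(AddMonoidHom.mk' A add).toZModLinearMap 2, k0, e, fun x => ?_⟩
  have f : ∀ x, x ≠ 0 → q (A x) = q a := fun x h => by
    obtain ⟨g, rfl⟩ := tr1 x h
    rw [k, O.map_Q]
  have f' : ∀ x y, x ≠ 0 → y ≠ 0 → x + y ≠ 0 → polar q (A x) (A y) = q a := fun x y h1 h2 h3 => by
    have := f _ h3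
    rwa [add, Q_add, f x h1, f y h2, vadd_self, zero_add] at this
  have := f' (w 1 0 0 0) (w 0 1 0 0 + w 0 0 1 0) (by decide) (by decide) (by decide)
  rw [add, polar_add_right, f' _ _ (by decide) (by decide) (by decide), f' _ _ (by decide) (by decide) (by decide),
    vadd_self] at this
  by_cases h : x = 0
  exacts [h ▸ by rw [map_zero, map_zero], (f x h).trans this.symm]

/-- The element of order three of `S₃`. -/
def c0 : P3 := swap 1 2 * swap 0 1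

theorem Mo_c0 (x y : W) : (Mo (c0, 1)).1 (x, y) = (y, x + y) := Prod.ext (acf_id _) (acf_id _)

theorem fix_a0 {x : W} (h : ∀ σ : A6, ac σ a0 = a0 → ac σ x = x) : x = 0 ∨ x = a0 :=
  (by decide +kernel : ∀ x : W, ac k1 x = x → ac v2 x = x → x = 0 ∨ x = a0) x (h _ (by decide)) (h _ (by decide))

theorem iso [Finite V] (nd : ND q) (hV : Nat.card V = 256) (c3 : c * c * c = 1) (c1 : c ≠ 1)
    (cm : ∀ σ, c * μ σ = μ σ * c) (h0 : ∀ v, k1 * k2 ∈ St μ v → v = 0) :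
    ∃ θ : (W × W) ≃ₗ[ZMod 2] V, (∀ v, q (θ v) = q1 v) ∧ (∀ (σ : A6) v, (μ σ).1 (θ v) = θ ((Mo (1, σ)).1 v)) ∧
      ∀ v, c.1 (θ v) = θ ((Mo (c0, 1)).1 v) := by
  have T : Tw μ := fun v h => by rw [h0 v h, mem_St, map_zero]
  obtain ⟨v, hv⟩ : ∃ v, c.1 v ≠ v := by by_contra! k; exact c1 (O.ext k)
  obtain ⟨a, ha, a1, a2⟩ := T.exists_fix (U := LinearMap.ker (Pj c))
    (fun σ v hv => by rw [LinearMap.mem_ker, ← Pj_comm (cm σ).symm, LinearMap.mem_ker.1 hv, map_zero])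
    (Pj_add c3 v) fun e => hv (by rw [vadd_eq_zero.1 e, fix_Pj c3])
  replace ha : Pj c a = 0 := ha
  obtain ⟨φ, e0, e, f⟩ := emb a2 (h0 _ (mul_mem (mem_St.2 (by
      rw [Pj_comm (μ_comm k12), mem_St.1 (a2 _ (by decide))])) (fix_Pj (μ_cube k2_cube) a)))
    ((μ (sw 0 5 2 3)⁻¹).1.map_eq_zero_iff.1 (h0 _ (St_map.2 (by
      rw [show (sw 0 5 2 3)⁻¹⁻¹ * (k1 * k2) * (sw 0 5 2 3)⁻¹ = kp by decide +kernel]
      exact fix_Pj (μ_cube kp_cube) a))))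
  have p : ∀ x, Pj c (φ x) = 0 := fun x => by
    by_cases h : x = 0
    · rw [h, map_zero, map_zero]
    obtain ⟨g, rfl⟩ := tr1 x h
    rw [e, ← Pj_comm (cm g).symm, e0, ha, map_zero]
  have inj : ∀ x, φ x = 0 → x = 0 := fun x h => by_contra fun n => by
    obtain ⟨g, rfl⟩ := tr1 x n
    rw [e, e0] at h
    exact O.apply_ne_zero _ a1 h
  let θ : (W × W) →ₗ[ZMod 2] V := φ.coprod (c.1.toLinearMap ∘ₗ φ)
  have hθ : ∀ x y, θ (x, y) = φ x + c.1 (φ y) := fun _ _ => rfl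
  have eθ : ∀ (σ : A6) v, (μ σ).1 (θ v) = θ ((Mo (1, σ)).1 v) := fun σ ⟨x, y⟩ => by
    rw [Mo_one, hθ, hθ, map_add, e, e, comm_apply (cm σ)]
  have iθ : Function.Injective θ := (injective_iff_map_eq_zero θ).2 fun ⟨x, y⟩ h => by
    by_cases y0 : y = 0
    · rw [y0, hθ, map_zero, map_zero, add_zero] at h
      rw [inj x h, y0]; rfl
    obtain ⟨g, rfl⟩ := tr1 y y0
    rw [← ac_inv' g x, ← Mo_one, ← eθ, (μ g).1.map_eq_zero_iff, hθ, e0, vadd_eq_zero] at h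
    rcases fix_a0 (x := ac g.1⁻¹ x) fun σ k => vadd_eq_zero.1 (inj _ (by
      rw [map_add, e, h, ← comm_apply (cm σ), mem_St.1 (a2 σ k), vadd_self])) with k | k <;> rw [k] at h
    · exact absurd (h.symm.trans (map_zero φ)) (O.apply_ne_zero c a1)
    · exact absurd ((Pj_fix (h.symm.trans e0)).symm.trans ha) a1
  have bθ := iθ.bijective_of_nat_card_le (by simp [hV])
  have qθ : ∀ x y, q (θ (x, y)) = polar q (φ x) (c.1 (φ y)) := fun x y => by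
    rw [hθ, Q_add, O.map_Q, f, f, zero_add, zero_add]
  have g0 : ∀ (σ : A6) x y, q (θ (ac σ x, ac σ y)) = q (θ (x, y)) := fun σ x y => by
    rw [← Mo_one, ← eθ, O.map_Q]
  have g1 : ∀ x y, q (θ (x, y)) = q (θ (a0, ac k2 a0)) * be x y := fun x y => by
    by_cases h : x = 0
    · rw [h, qθ, map_zero, polar_zero_left, zero_be, mul_zero]
    obtain ⟨g, rfl⟩ := tr1 x h
    rw [← ac_inv' g y, g0, be_ac]
    generalize ac g.1⁻¹ y = y
    by_cases y0 : y = 0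
    · rw [y0, qθ, map_zero, map_zero, polar_zero_right, be_zero, mul_zero]
    by_cases y1 : y = a0
    · rw [y1, be_self, mul_zero, hθ, add_comm, ← tt (p _), O.map_Q, O.map_Q, f]
    obtain ⟨g, e1, ⟨rfl, k⟩ | ⟨rfl, k⟩⟩ := tr2 y y0 y1 <;> rw [k] <;> nth_rewrite 1 [← e1] <;> rw [g0]
    · rw [mul_one]
    have h1 := g0 k1 a0 b0
    have h2 := g0 k1 a0 (ac k1 b0)
    rw [show ac k1 a0 = a0 by decide] at h1 h2
    rw [show ac k1 (ac k1 b0) = b0 + ac k1 b0 by decide, h1, qθ, map_add, map_add, polar_add_right, ← qθ, ← qθ,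
      h1, vadd_self] at h2
    rw [← h2, mul_zero]
  have : Nontrivial V := ⟨a, 0, a1⟩
  obtain ⟨u, hu⟩ := nd.exists_Q_ne
  obtain ⟨⟨x, y⟩, rfl⟩ := bθ.2 u
  refine ⟨.ofBijective θ bθ, fun ⟨x', y'⟩ => ?_, eθ, fun ⟨x, y⟩ => ?_⟩
  · rw [g1] at hu
    exact (g1 x' y').trans (by rw [z2_ne.1 (left_ne_zero_of_mul hu), one_mul]; rfl)
  · change c.1 (θ _) = θ _
    rw [Mo_c0, hθ, hθ, map_add, tt (p y), map_add, map_add]
    abel

end Cfsg.Lib.S36
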