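import Cfsg.Agent.Lib.S36.Id

/-!
# Eight-dimensional orthogonal modules of `3 × A₆` over `𝔽₂`: the case `V₆ ⊥ V₂`
-/

set_option autoImplicit false

namespace Cfsg.Lib.S36

open Subgroup QuadraticMap Cfsg.Lib.Orth Cfsg.Lib.U6 Equiv Equiv.Perm Module

variable {V : Type*} [AddCommGroup V] [Module (ZMod 2) V] {q : QuadraticForm (ZMod 2) V}
  {μ : A6 →* O q} {c t i : O q} {v a : V} {σ g : A6} [Finite V]

theorem four_triv {Z : Submodule (ZMod 2) V} (hZ : Nat.card Z = 4) (ht : ∀ v ∈ Z, t.1 v ∈ Z)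
    (hi : ∀ v ∈ Z, i.1 v ∈ Z) (hc : ∀ v ∈ Z, c.1 v ∈ Z) (p : ∀ v ∈ Z, Pj t v = 0) (ii : i * i = 1)
    (it : i * t = t * t * i) (ci : c * i = i * c) (ct : c * t = t * c) (hv : v ∈ Z) : c.1 v = v := by
  by_cases v0 : v = 0
  · simp [v0]
  obtain ⟨w, hw, w0, e⟩ : ∃ w ∈ Z, w ≠ 0 ∧ i.1 w = w := by
    by_cases e : i.1 v = v
    exacts [⟨v, hv, v0, e⟩, ⟨_, add_mem (hi v hv) hv, mt vadd_eq_zero.1 e, fix_comm ii v⟩]
  have k := fun x => four_cases hZ (w := x) hw (ht w hw) w0 (O.apply_ne_zero t w0) fun e => w0 (Pj_fix e ▸ p w hw)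
  have e1 : i.1 (t.1 w) = t.1 w + w := by rw [← O.mul_apply, it, O.mul_apply, O.mul_apply, e, tt (p w hw)]
  have e2 := comm_apply ci w
  have e3 : c.1 w = w := by
    rcases k _ (hc w hw) with k | k | k | k
    · exact absurd k (O.apply_ne_zero c w0)
    · exact k
    · rw [e, k, e1, left_eq_add] at e2; exact absurd e2 w0
    · rw [e, k, map_add, e1, e, vadd_cancel', add_eq_left] at e2; exact absurd e2 w0
  rcases k v hv with rfl | rfl | rfl | rfl <;> simp [e3, comm_apply ct]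

theorem aniso (nd : ND q) (t3 : t * t * t = 1) (h : Nat.card (O.comm t) = 4) (p : Pj t v = 0) (v0 : v ≠ 0) :
    q v ≠ 0 := fun e => v0 (nd.eq_zero fun y => by
  have m : ∀ {v}, Pj t v = 0 → Pj t (t.1 v) = 0 := fun p => by rw [← Pj_comm rfl, p, map_zero]
  have e1 : polar q v (t.1 v) = 0 := by
    have := O.map_Q t (t.1 v)
    rwa [tt p, add_comm, Q_add, O.map_Q, e, zero_add, zero_add] at this
  rw [← vadd_cancel' y (Pj t y), polar_add_right, polar_comm _ v (Pj t y), polar_Pj (fix_Pj t3 y) p, add_zero]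
  rcases four_cases h ((mem_comm3 t3).2 p) ((mem_comm3 t3).2 (m p)) v0 (O.apply_ne_zero t v0)
    (fun e => v0 (Pj_fix e ▸ p)) ((mem_comm3 t3).2 (Pj_add t3 y)) with k | k | k | k <;> simp [k, e1, e])

theorem tw_or (hV : Nat.card V = 256) (c1 : c ≠ 1) (cm : ∀ σ, c * μ σ = μ σ * c) :
    Tw μ ∨ ∀ v, k1 ∈ St μ v → k2 ∈ St μ v := by
  by_contra! k
  obtain ⟨k, x, x1, x2⟩ := k
  obtain ⟨y, y1, y2⟩ : ∃ y, k1 * k2 ∈ St μ y ∧ k1 ∉ St μ y := by by_contra! h; exact k h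
  let s : Fin 4 → A6 := ![k1, k2, k1 * k2, k1 * k1 * k2]
  let t : Fin 4 → A6 := ![k2, k1 * k1, k1, k2]
  let Z : Fin 4 → Submodule (ZMod 2) V := fun n => O.fix (μ (s n)) ⊓ LinearMap.ker (Pj (μ (t n)))
  have mZ : ∀ {n v}, v ∈ Z n ↔ s n ∈ St μ v ∧ Pj (μ (t n)) v = 0 := and_congr O.mem_fix Iff.rfl
  have st : ∀ n, s n * t n = t n * s n ∧ t n * t n * t n = 1 ∧ sw 0 1 3 4 * t n = t n * t n * sw 0 1 3 4 ∧
      s n * s n = (sw 0 1 3 4)⁻¹ * s n * sw 0 1 3 4 := by decide +kernel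
  have cZ : ∀ n (g : O q), g * μ (s n) = μ (s n) * g → g * μ (t n) = μ (t n) * g → ∀ v ∈ Z n, g.1 v ∈ Z n :=
    fun n g h1 h2 v hv => mZ.2 ⟨by rw [mem_St, ← comm_apply h1, mem_St.1 (mZ.1 hv).1],
      by rw [← Pj_comm h2, (mZ.1 hv).2, map_zero]⟩
  have tZ := fun n => cZ n (μ (t n)) (μ_comm (st n).1.symm) rfl
  have ne : ∀ n, ∃ v, s n ∈ St μ v ∧ t n ∉ St μ v := fun n => by
    fin_cases n
    exacts [⟨x, x1, x2⟩, ⟨_, St_map.2 ((by decide +kernel : k1 = j0⁻¹ * k2 * j0) ▸ x1),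
      mt St_map.1 ((by decide +kernel : k2 = j0⁻¹ * (k1 * k1) * j0) ▸ x2)⟩, ⟨y, y1, y2⟩,
      ⟨_, St_map.2 ((by decide +kernel : k1 * k2 = j0⁻¹ * (k1 * k1 * k2) * j0) ▸ y1),
        mt St_map.1 ((by decide +kernel : k1 = j0⁻¹ * k2 * j0) ▸ y2)⟩]
  have c4 : ∀ n, 4 ≤ Nat.card (Z n) := fun n => by
    obtain ⟨v, h1, h2⟩ := ne n
    have m : v + Pj (μ (t n)) v ∈ Z n := mZ.2 ⟨St_add h1 (by rw [mem_St, Pj_comm (μ_comm (st n).1), mem_St.1 h1]),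
      Pj_add (μ_cube (st n).2.1) v⟩
    exact four_le m (fun e => h2 (by rw [mem_St, vadd_eq_zero.1 e, fix_Pj (μ_cube (st n).2.1)])) (tZ n _ m) (mZ.1 m).2
  have inj := indep Z (fun n => Pj (μ (s n))) (fun n v h => Pj_fix (mZ.1 h).1) fun n m e v h => by
    obtain ⟨a, k⟩ := (by decide +kernel : ∀ n m, m ≠ n → ∃ a : Fin 3, s n = t m * s m ^ a.1 ∨
      s n = t m * (t m * s m ^ a.1)) n m e
    have f : ∀ v ∈ Z m, (μ (t m * s m ^ a.1)).1 v = (μ (t m)).1 v := fun v h => by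
      rw [μ_mul, mem_St.1 (pow_mem (mZ.1 h).1 _)]
    rcases k with k | k <;> rw [k, Pj_apply]
    · rw [f v h, f _ (tZ m v h)]; exact (mZ.1 h).2
    · rw [μ_mul, f v h, μ_mul, f _ (tZ m _ (tZ m v h)), cube_apply (μ_cube (st m).2.1), add_right_comm]
      exact (mZ.1 h).2
  have le := Nat.card_le_card_of_injective _ inj
  rw [hV, Nat.card_pi] at le
  have c' : ∀ n, Nat.card (Z n) = 4 := fun n => by
    by_contra k
    have := Finset.prod_lt_prod (s := Finset.univ) (f := fun _ : Fin 4 => 4) (fun _ _ => by omega)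
      (fun i _ => c4 i) ⟨n, Finset.mem_univ n, lt_of_le_of_ne (c4 n) (Ne.symm k)⟩
    exact absurd (this.trans_le le) (by decide)
  refine c1 (O.ext fun w => ?_)
  obtain ⟨x, rfl⟩ := (inj.bijective_of_nat_card_le (by simp [hV, Nat.card_pi, c'])).2 w
  simp only [map_sum]
  refine Finset.sum_congr rfl fun n _ => four_triv (i := μ (sw 0 1 3 4)) (c' n) (tZ n) (fun v hv => mZ.2
    ⟨St_map.2 ((st n).2.2.2 ▸ mul_mem (mZ.1 hv).1 (mZ.1 hv).1), ?_⟩) (cZ n c (cm _) (cm _)) (fun v h => (mZ.1 h).2)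
    (by rw [← map_mul, show sw 0 1 3 4 * sw 0 1 3 4 = 1 by decide +kernel, map_one])
    (by rw [← map_mul, (st n).2.2.1, map_mul, map_mul]) (cm _) (cm _) (x n).2
  have e : ∀ v, (μ (t n)).1 ((μ (t n)).1 ((μ (sw 0 1 3 4)).1 v)) = (μ (sw 0 1 3 4)).1 ((μ (t n)).1 v) := fun v => by
    rw [← μ_mul, ← μ_mul, ← μ_mul, (st n).2.2.1]
  rw [Pj_apply, e, ← cube_apply (μ_cube (st n).2.1) ((μ (t n)).1 _), e, e, ← map_add, ← map_add, add_right_comm,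
    ← Pj_apply, (mZ.1 hv).2, map_zero]

theorem plane (nd : ND q) (hV : Nat.card V = 256) (c3 : c * c * c = 1) (c1 : c ≠ 1)
    (cm : ∀ σ, c * μ σ = μ σ * c) (inj : Function.Injective μ) (T : Tw μ) (h : k1 * k2 ∈ St μ v) (v0 : v ≠ 0) :
    Nat.card (O.comm (μ k1)) = 4 ∧ Nat.card (O.comm c) = 4 ∧ (∀ σ v, σ ∈ St μ (c.1 v + v)) ∧
      ∃ n, q n ≠ 0 ∧ (c.1 n = n ∧ ∀ σ, σ ∈ St μ n) ∧ ∀ v, c.1 v = v → (∀ σ, σ ∈ St μ v) → v = 0 ∨ v = n := by
  rw [card_pow, show 256 = 2 ^ 8 from rfl, Nat.pow_right_inj (by omega)] at hV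
  have s3 := μ_cube (μ := μ) k1_cube
  have ev : ∀ t : O q, t * t * t = 1 → t ≠ 1 → Even (finrank (ZMod 2) (O.comm t)) ∧
      finrank (ZMod 2) (O.comm t) ≠ 0 := fun t t3 t1 => ⟨(dickson_eq_one_iff nd).1 (by
    have := congrArg (dickson nd) t3
    rwa [map_mul, map_mul, Int.units_mul_self, one_mul, map_one] at this), fun e => t1 (O.ext fun v =>
      sub_eq_zero.1 ((Submodule.eq_bot_iff _).1 (Submodule.finrank_eq_zero.1 e) _ (O.sub_mem_comm t v)))⟩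
  have cj : ∀ g : A6, finrank (ZMod 2) (O.fix (μ (g * k1 * g⁻¹))) = finrank (ZMod 2) (O.fix (μ k1)) := fun g =>
    ((μ g⁻¹).1.ofSubmodule' (O.fix (μ k1))).finrank_eq.symm ▸ congrArg (fun U : Submodule (ZMod 2) V =>
      finrank (ZMod 2) U) (Submodule.ext fun v => O.mem_fix.trans (mem_St.symm.trans
        ((St_map.trans (by rw [inv_inv])).symm.trans O.mem_fix.symm)))
  have mK : ∀ {v}, v ∈ O.fix (μ k1) ⊓ O.fix (μ k2) ↔ k1 * k2 ∈ St μ v := ⟨fun h => mul_mem (O.mem_fix.1 h.1)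
    (O.mem_fix.1 h.2), fun h => ⟨O.mem_fix.2 (T _ h), O.mem_fix.2 ((mul_mem_cancel_left (T _ h)).1 h)⟩⟩
  have f1 := Submodule.finrank_sup_add_finrank_inf_eq (O.fix (μ k1)) (O.fix (μ k2))
  rw [(eq_top_iff (a := _ ⊔ _)).2 fun v _ => vadd_cancel (Pj (μ k1) v) v ▸ Submodule.add_mem_sup (O.mem_fix.2 (fix_Pj s3 v))
    (O.mem_fix.2 (T.k2 (add_comm v _ ▸ Pj_add s3 v))), finrank_top, hV] at f1
  have f0 := cj j0
  rw [show j0 * k1 * j0⁻¹ = k2 by decide +kernel] at f0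
  have f2 := mt Submodule.finrank_eq_zero.1 ((Submodule.ne_bot_iff _).2 ⟨v, mK.2 h, v0⟩)
  have f3 := O.finrank_comm_add_finrank_fix (μ k1)
  obtain ⟨⟨m, f4⟩, f5⟩ := ev _ s3 fun e => absurd (inj (e.trans (map_one μ).symm)) (by decide)
  have c4 : Nat.card (O.comm (μ k1)) = 4 := by rw [card_pow, show finrank _ _ = 2 by omega]; rfl
  have mc : ∀ g : O q, g * μ k1 = μ k1 * g → ∀ v ∈ O.comm (μ k1), g.1 v ∈ O.comm (μ k1) := fun g h v hv =>
    (mem_comm3 s3).2 (by rw [← Pj_comm h, (mem_comm3 s3).1 hv, map_zero])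
  have b : ∀ σ v, σ ∈ St μ (c.1 v + v) := fun σ v => gen6 (fun g => by
    have := four_triv (i := μ n0) c4 (mc _ rfl) (fun v hv => by
        obtain ⟨y, rfl⟩ := O.mem_comm.1 hv
        rw [map_sub, ← μ_mul, show n0 * k1 = k1 * (k1 * n0) by decide +kernel, μ_mul, μ_mul,
          ← sub_add_sub_cancel _ ((μ k1).1 ((μ n0).1 y))]
        exact add_mem (O.sub_mem_comm _ _) (O.sub_mem_comm _ _)) (mc c (cm _)) (fun v => (mem_comm3 s3).1)
      (by rw [← map_mul, show n0 * n0 = 1 by decide +kernel, map_one])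
      (by rw [← map_mul, show n0 * k1 = k1 * k1 * n0 by decide +kernel, map_mul, map_mul]) (cm _) (cm _)
      (O.sub_mem_comm _ ((μ g⁻¹).1 v))
    rw [← inv_inv g, inv_inv g⁻¹, ← St_map, map_add, ← comm_apply (cm _), mem_St, map_add, ← comm_apply (cm _),
      ← vadd_eq_zero, add_add_add_comm, ← map_add, ← vsub, ← vsub, this, sub_self]) σ
  let N : Submodule (ZMod 2) V := ⨅ σ, O.fix (μ σ)
  have mN : ∀ {v}, v ∈ N ↔ ∀ σ, σ ∈ St μ v := (Submodule.mem_iInf _).trans (forall_congr' fun _ => O.mem_fix)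
  have n1 := Submodule.finrank_lt_finrank_of_lt (lt_of_le_of_ne (le_inf (iInf_le _ k1) (iInf_le _ k2)) fun e => by
    have hU : ∀ σ, ∀ v ∈ perp q N, (μ σ).1 v ∈ perp q N := fun σ =>
      O.mapsTo_perp fun w hw => by rwa [mem_St.1 (mN.1 hw σ)]
    have hP : ∀ σ, ∀ v ∈ perp q N, Pj (μ σ) v ∈ perp q N := fun σ v hv =>
      add_mem (add_mem hv (hU σ v hv)) (hU σ _ (hU σ v hv))
    have h0 : ∀ v ∈ perp q N, k1 * k2 ∈ St μ v → v = 0 := fun v hv h => by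
      rw [e, perp_inf nd, O.perp_fix nd, O.perp_fix nd] at hv
      obtain ⟨x, hx, y, hy, k⟩ := Submodule.mem_sup.1 hv
      rw [← Pj_fix (O.mem_fix.1 (mK.2 h).1), ← Pj_fix (O.mem_fix.1 (mK.2 h).2), ← k, map_add,
        (mem_comm3 (μ_cube k2_cube)).1 hy, add_zero, Pj_Pj (μ_comm k12), (mem_comm3 s3).1 hx, map_zero]
    have := finrank_add_finrank_perp nd N
    obtain ⟨u, hu, u0⟩ := (Submodule.ne_bot_iff (perp q N)).1 fun k => by
      rw [k, finrank_bot, e] at this; omega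
    obtain ⟨a, ha, a1, a2⟩ := T.exists_fix hU hu u0
    obtain ⟨φ, e0, e, f⟩ := emb a2 (h0 _ (hP _ _ ha) (mul_mem (mem_St.2 (by
        rw [Pj_comm (μ_comm k12), mem_St.1 (a2 _ (by decide))])) (fix_Pj (μ_cube k2_cube) a)))
      ((μ (sw 0 5 2 3)⁻¹).1.map_eq_zero_iff.1 (h0 _ (hU _ _ (hP _ _ ha)) (St_map.2 (by
        rw [show (sw 0 5 2 3)⁻¹⁻¹ * (k1 * k2) * (sw 0 5 2 3)⁻¹ = kp by decide +kernel]
        exact fix_Pj (μ_cube kp_cube) a))))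
    refine aniso nd s3 c4 ?_ ?_ (f (ac kp a0))
    · rw [Pj_apply, ← e, ← e, ← map_add, ← map_add, show _ + _ = (0 : W) by decide, map_zero]
    · rw [e, e0]; exact O.apply_ne_zero _ a1 : N < O.fix (μ k1) ⊓ O.fix (μ k2))
  have n2 := Submodule.finrank_sup_add_finrank_inf_eq (O.fix (μ k1)) (O.fix (μ (sw 0 3 1 4 * k1 * (sw 0 3 1 4)⁻¹)))
  have n3 := Submodule.finrank_le (O.fix (μ k1) ⊔ O.fix (μ (sw 0 3 1 4 * k1 * (sw 0 3 1 4)⁻¹)))
  rw [cj, show sw 0 3 1 4 * k1 * (sw 0 3 1 4)⁻¹ = k5 by decide +kernel] at n2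
  rw [show sw 0 3 1 4 * k1 * (sw 0 3 1 4)⁻¹ = k5 by decide +kernel] at n3
  obtain ⟨u, hu, un⟩ := SetLike.not_le_iff_exists.1 fun k : O.fix (μ k1) ⊓ O.fix (μ k5) ≤ N => by
    have := Submodule.finrank_mono k; omega
  have cN : O.comm c ≤ N := fun v hv => by
    obtain ⟨y, rfl⟩ := O.mem_comm.1 hv
    exact mN.2 fun σ => vsub (c.1 y) y ▸ b σ y
  have u5 : ∀ σ : A6, σ.1 5 = 5 → σ ∈ St μ (Pj c u) := gen5
    (by rw [mem_St, Pj_comm (cm _).symm, O.mem_fix.1 hu.1]) (by rw [mem_St, Pj_comm (cm _).symm, O.mem_fix.1 hu.2])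
  replace un : Pj c u ∉ N := fun k => un (vadd_cancel' u _ ▸ add_mem (cN ((mem_comm3 c3).2 (Pj_add c3 u))) k)
  have uc := fix_Pj c3 u
  generalize Pj c u = u at u5 un uc
  choose r hr using (by decide +kernel : ∀ i, ∃ g ∈ [sw 0 1 1 5, sw 0 1 0 5, sw 2 5 0 1, sw 3 5 0 1, sw 4 5 0 1, 1],
    g.1 5 = i)
  let e : Fin 6 → V := fun i => (μ (r i)).1 u
  have he : ∀ (σ : A6) i, (μ σ).1 (e i) = e (σ.1 i) := fun σ i => by
    have := u5 ((r (σ.1 i))⁻¹ * σ * r i) (Perm.inv_eq_iff_eq.2 (by simp [(hr _).2]))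
    rwa [mem_St, μ_mul, μ_mul, map_inv, O.inv_apply_eq] at this
  have d0 : e 1 + e 0 ≠ 0 := fun k => un (mN.2 fun σ => by
    have e5 : e 5 = u := u5 _ (hr 5).2
    rw [mem_St, ← e5, he]
    by_cases k' : σ.1 5 = 5
    · rw [k']
    obtain ⟨g, -, h1, h2⟩ := (by decide +kernel : ∀ i, i ≠ 5 → ∃ g ∈ [(sw 0 1 1 5)⁻¹, (sw 0 2 2 5)⁻¹, (sw 0 5 1 2)⁻¹,
      (sw 0 5 1 3)⁻¹, (sw 0 5 1 4)⁻¹], g.1 0 = 5 ∧ g.1 1 = i) _ k'
    rw [← h2, ← h1, ← he, ← he, vadd_eq_zero.1 k])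
  have d1 := aniso nd s3 c4 ((mem_comm3 s3).1 (O.mem_comm.2 ⟨e 0, by rw [he, vsub]; rfl⟩)) d0
  have d2 : polar q ((μ kp).1 (e 1 + e 0)) (e 1 + e 0) = 0 := by
    have := polar_fix (μ (sw 0 1 1 4)) (v := (μ kp).1 (e 1 + e 0)) (by simp only [map_add, he]; rfl) (e 0)
    rwa [he] at this
  have nN : ∑ i, e i ∈ N ⊓ O.fix c := ⟨mN.2 fun σ => by
    rw [mem_St, map_sum]; simp only [he]; exact Equiv.sum_comp σ.1 e, O.mem_fix.2 (by
    rw [map_sum]; exact Finset.sum_congr rfl fun i _ => by rw [comm_apply (cm _), uc])⟩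
  have nq : q (∑ i, e i) ≠ 0 := by
    rw [show ∑ i, e i = Pj (μ kp) (e 1 + e 0) by
      simp only [Pj_apply, map_add, he, Fin.sum_univ_six]
      change _ = e 1 + e 3 + e 5 + (e 0 + e 2 + e 4)
      abel]
    generalize e 1 + e 0 = d at d1 d2
    rw [Pj_apply, Q_add, Q_add, O.map_Q, O.map_Q, O.map_Q, polar_add_left, O.map_polar, polar_comm, d2,
      ← O.map_polar (μ kp), cube_apply (μ_cube kp_cube), d2, z2_ne.1 d1]
    decide
  have n4 := Submodule.finrank_sup_add_finrank_inf_eq (O.comm c) (N ⊓ O.fix c)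
  rw [(Submodule.eq_bot_iff (O.comm c ⊓ (N ⊓ O.fix c))).2 fun v hv => (Pj_fix (O.mem_fix.1 hv.2.2)).symm.trans
    ((mem_comm3 c3).1 hv.1), finrank_bot] at n4
  have n5 := Submodule.finrank_mono (sup_le cN (inf_le_left (b := O.fix c)))
  have n6 := Submodule.finrank_mono ((Submodule.span_singleton_le_iff_mem _ _).2 nN)
  have n7 := finrank_span_singleton (K := ZMod 2) (ne_zero_of_Q_ne_zero nq)
  obtain ⟨⟨m', f6⟩, f7⟩ := ev c c3 c1
  refine ⟨c4, by rw [card_pow, show finrank _ _ = 2 by omega]; rfl, b, _, nq, ⟨O.mem_fix.1 nN.2, mN.1 nN.1⟩,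
    fun v h1 h2 => mem_span2.1 ((Submodule.eq_of_le_of_finrank_le ((Submodule.span_singleton_le_iff_mem _ _).2 nN)
      (by omega)).ge ⟨mN.2 h2, O.mem_fix.2 h1⟩)⟩

end Cfsg.Lib.S36
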