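import Cfsg.Agent.Lib.S36.One2
import Cfsg.Agent.Lib.ZStar.Main
import Cfsg.Agent.Lib.Core.PPrimeCore

/-!
# Centralizers `2^{1+8}.Γ` with `3 × A₆ ≤ Γ ≤ S₃ × S₆` do not occur in simple groups
-/

set_option autoImplicit false

namespace Cfsg.Lib.S36

open Subgroup QuadraticMap Cfsg.Lib.ES Cfsg.Lib.Orth Cfsg.Lib.U6 Equiv Equiv.Perm Module Cfsg.Lib.ThreeTr

variable {G : Type*} [Group G] [Finite G] {z : G} {Q : Subgroup G} {V : Type*} [AddCommGroup V]
  [Module (ZMod 2) V] {q : QuadraticForm (ZMod 2) V} {μ : A6 →* O q} {c : O q} {Γ : Subgroup (O q)}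

theorem exists_out : ∃ α : P6 ≃* P6, (∀ σ, sign (α σ) = sign σ) ∧ α (k1 * k2) = k1 ∧ α k1 = k1 * k1 * k2 := by
  let s : ℕ → P6 := fun i => [swap 0 3 * swap 1 4 * swap 2 5, swap 0 5 * swap 1 3 * swap 2 4,
    swap 0 1 * swap 2 5 * swap 3 4, swap 0 3 * swap 1 5 * swap 2 4, swap 0 4 * swap 1 3 * swap 2 5].getD i 1
  obtain ⟨φ, hφ⟩ := CoxA.exists_hom (s := s) (n := 5) ⟨by decide +kernel,
    fun i h => (by decide +kernel : ∀ i < 4, s i * s (i + 1) * s i = s (i + 1) * s i * s (i + 1)) i (by omega),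
    fun i j h h' => (by decide +kernel : ∀ j < 5, ∀ i < 5, i + 1 < j → s i * s j = s j * s i) j h' i (by omega) h⟩
  have e : ∀ i j, i < 5 → j < 5 → φ (adjSwap 5 i * adjSwap 5 j) = s i * s j := fun i j h h' => by
    rw [map_mul, hφ i h, hφ j h']
  have i := injective_of_perm_five_le (φ := φ) (by simp) (σ := adjSwap 5 0) (τ := adjSwap 5 1) ⟨0, 1, by decide, rfl⟩
    ⟨1, 2, by decide, rfl⟩ (by rw [hφ 0 (by omega), hφ 1 (by omega)]; decide +kernel)
  refine ⟨.ofBijective φ i.bijective_of_finite, fun σ => (DFunLike.congr_fun (MonoidHom.eq_of_eqOn_dense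
    (f := sign.comp φ) (g := sign) (coxSub_adjSwap 5) ?_) σ :), ?_, (e 0 1 (by omega) (by omega)).trans
      (by decide +kernel)⟩
  · rintro _ ⟨i, h, rfl⟩
    rw [MonoidHom.comp_apply, hφ i h]
    exact (by decide +kernel : ∀ i < 5, sign (s i) = sign (adjSwap 5 i)) i h
  · exact (map_mul φ _ _).trans ((congrArg₂ _ (e 0 1 (by omega) (by omega)) (e 3 4 (by omega) (by omega))).trans
      (by decide +kernel))

theorem Hy.twist (H : Hy Γ c μ) (h : ∀ v, k1 ∈ St μ v → k2 ∈ St μ v) : ∃ μ', Hy Γ c μ' ∧ Tw μ' := by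
  obtain ⟨α, h1, h2, h3⟩ := exists_out
  let β : A6 →* A6 := (α.toMonoidHom.comp (alternatingGroup _).subtype).codRestrict _ fun σ => (h1 σ).trans σ.2
  have i : Function.Injective β := fun a b e => Subtype.ext (α.injective (congrArg Subtype.val e))
  refine ⟨μ.comp β, ⟨H.c3, H.c1, fun _ => H.cm _, H.inj.comp i, H.cΓ, fun _ => H.μΓ _, fun g hg => ?_, H.nc, ?_⟩,
    fun v hv => ?_⟩
  · obtain ⟨b, e⟩ := H.nm g hg
    exact ⟨α.symm b, fun σ => (e _).trans (congrArg μ (Subtype.ext (by simp [β])))⟩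
  · rw [MonoidHom.range_comp, MonoidHom.range_eq_top.2 (Finite.surjective_of_injective i), ← MonoidHom.range_eq_map]
    exact H.i4
  · have : k1 ∈ St μ v := (Subtype.ext h2 : β (k1 * k2) = k1) ▸ hv
    exact ((Subtype.ext h3 : β k1 = k1 * k1 * k2).symm ▸ mul_mem (mul_mem this this) (h v this) : β k1 ∈ St μ v)

theorem cent {r : O q1} (h : ∀ σ : A6, r * Mo (1, σ) = Mo (1, σ) * r) : ∃ τ, r = Mo (τ, 1) := by
  have k : ∀ v, (∀ σ : A6, ac σ a0 = a0 → (Mo (1, σ)).1 v = v) → (r.1 v).1 ∈ [0, a0] ∧ (r.1 v).2 ∈ [0, a0] := by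
    intro v hv
    have := fun σ e => Prod.ext_iff.1 ((comm_apply (h σ) v).symm.trans (congrArg r.1 (hv σ e)))
    exact ⟨mem2.2 (fix_a0 fun σ e => (this σ e).1), mem2.2 (fix_a0 fun σ e => (this σ e).2)⟩
  have k1 := k (a0, 0) fun σ e => by rw [Mo_one, e, ac_zero]
  have k2 := k (0, a0) fun σ e => by rw [Mo_one, e, ac_zero]
  obtain ⟨τ, e1, e2⟩ := (by set_option synthInstance.maxSize 2000 in decide +kernel : ∀ x ∈ [0, a0], ∀ y ∈ [0, a0],
    ∀ x' ∈ [0, a0], ∀ y' ∈ [0, a0], (x, y) ≠ 0 → (x', y') ≠ 0 → (x, y) ≠ (x', y') → ∃ τ : P3,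
      mo τ.symm (1 : P6).symm (a0, 0) = (x, y) ∧ mo τ.symm (1 : P6).symm (0, a0) = (x', y')) _ k1.1 _ k1.2 _ k2.1 _
    k2.2 (O.apply_ne_zero r (by decide)) (O.apply_ne_zero r (by decide)) (r.1.injective.ne (by decide))
  have f : ∀ v, (Mo (τ, 1)).1 v = r.1 v → ∀ g : A6, r.1 ((Mo (1, g)).1 v) = (Mo (τ, 1)).1 ((Mo (1, g)).1 v) :=
    fun v e g => by rw [comm_apply (h g), ← e, ← O.mul_apply, ← O.mul_apply, ← map_mul, ← map_mul]; simp
  refine ⟨τ, O.ext fun ⟨x, y⟩ => ?_⟩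
  rw [show (x, y) = (x, 0) + (0, y) by simp, map_add, map_add]
  congr 1
  · by_cases k : x = 0
    · rw [k, Prod.mk_zero_zero, map_zero, map_zero]
    obtain ⟨g, rfl⟩ := tr1 x k
    simpa only [Mo_one, ac_zero] using f _ e1 g
  · by_cases k : y = 0
    · rw [k, Prod.mk_zero_zero, map_zero, map_zero]
    obtain ⟨g, rfl⟩ := tr1 y k
    simpa only [Mo_one, ac_zero] using f _ e2 g

theorem isolated (D : CD z Q q) (hQ : Nat.card Q = 2 ^ 9) (H : Hy D.Γ c μ) {g : G}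
    (cz : Commute z (g * z * g⁻¹)) : g * z * g⁻¹ = z := by
  have := D.finite
  obtain ⟨μ, H, T⟩ : ∃ μ, Hy D.Γ c μ ∧ Tw μ := (tw_or (D.card_V' hQ) H.c1 H.cm).elim (⟨μ, H, ·⟩) H.twist
  by_cases k : ∃ v, k1 * k2 ∈ St μ v ∧ v ≠ 0
  · obtain ⟨v, h1, h2⟩ := k
    exact two D hQ H T h1 h2 cz
  push Not at k
  obtain ⟨θ, h1, h2, h3⟩ := iso D.nd (D.card_V' hQ) H.c3 H.c1 H.cm k
  have he : ∀ v, q1 (θ.symm v) = q v := fun v => by rw [← h1, θ.apply_symm_apply]
  have r : (D.congr θ.symm he).Γ = D.Γ.map (O.congrI θ.symm he).toMonoidHom :=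
    (MonoidHom.map_range (O.congrI θ.symm he).toMonoidHom D.ρh).symm
  have e1 : ∀ σ, O.congrI θ.symm he (μ σ) = Mo (1, σ) := fun g => O.ext fun v => by
    rw [O.congrI_apply, LinearEquiv.symm_symm, LinearEquiv.symm_apply_eq]; exact h2 g v
  have e2 : O.congrI θ.symm he c = Mo (c0, 1) := O.ext fun v => by
    rw [O.congrI_apply, LinearEquiv.symm_symm, LinearEquiv.symm_apply_eq]; exact h3 v
  have N : Gd (D.congr θ.symm he).Γ := r ▸ ⟨by
    rintro _ ⟨g, hg, rfl⟩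
    obtain ⟨b, e⟩ := H.nm g hg
    obtain ⟨τ, k⟩ := cent (r := (Mo (1, b))⁻¹ * O.congrI θ.symm he g) fun σ => by
      have := congrArg (O.congrI θ.symm he) (e σ)
      rw [map_mul, map_mul, map_inv, e1, e1, mul_inv_eq_iff_eq_mul] at this
      rw [mul_assoc, this, ← mul_assoc, ← mul_assoc, ← map_inv, ← map_mul, ← map_mul]
      simp [mul_assoc]
    exact ⟨(1, b) * (τ, 1), by rw [map_mul, ← k, mul_inv_cancel_left]; rfl⟩, fun a σ h => by
    have m : Mo (c0, 1) ∈ D.Γ.map (O.congrI θ.symm he).toMonoidHom := ⟨c, H.cΓ, e2⟩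
    rw [show (a, σ.1) = (a, 1) * (1, σ.1) by simp, map_mul]
    refine mul_mem ?_ ⟨_, H.μΓ σ, e1 σ⟩
    rcases (by decide : ∀ a : P3, sign a = 1 → a = 1 ∨ a = c0 ∨ a = c0 * c0) a h with rfl | rfl | rfl
    exacts [(map_one Mo).symm ▸ one_mem _, m, (map_mul Mo (c0, 1) (c0, 1)).symm ▸ mul_mem m m]⟩
  exact one_wc N hQ (one_wc' N hQ) cz

theorem hy_of {A : Subgroup (P3 × P6)} (hf : ∀ a (σ : A6), sign a = 1 → (a, σ.1) ∈ A) {ψ : A →* O q}
    (iψ : Function.Injective ψ) : ∃ c μ, Hy ψ.range c μ := by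
  let ν : A6 →* A := ((MonoidHom.inr _ _).comp (alternatingGroup _).subtype).codRestrict _ fun σ => hf 1 σ rfl
  refine ⟨ψ ⟨_, hf c0 1 (by decide)⟩, ψ.comp ν, ?_, fun k => absurd (congrArg (·.1.1) (iψ (k.trans (map_one ψ).symm))) (by decide : c0 ≠ 1), fun σ => ?_,
    iψ.comp fun a b e => Subtype.ext (congrArg (·.1.2) e), ⟨_, rfl⟩, fun σ => ⟨_, rfl⟩, ?_, ?_, ?_⟩
  · rw [← map_mul, ← map_mul, ← map_one ψ]
    exact congrArg ψ (Subtype.ext (Prod.ext (by decide : c0 * c0 * c0 = 1) rfl))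
  · rw [MonoidHom.comp_apply, ← map_mul, ← map_mul]
    exact congrArg ψ (Subtype.ext (Prod.ext rfl ((one_mul _).trans (mul_one _).symm)))
  · rintro _ ⟨x, rfl⟩
    refine ⟨x.1.2, fun σ => ?_⟩
    rw [MonoidHom.comp_apply, MonoidHom.comp_apply, ← map_inv, ← map_mul, ← map_mul]
    exact congrArg ψ (Subtype.ext (Prod.ext (mul_inv_cancel x.1.1) rfl))
  · rintro _ ⟨x, rfl⟩
    simp only [← map_inv, ← map_mul, iψ.eq_iff]
    exact ((by decide : ∀ τ : P3, τ * c0 * τ⁻¹ = c0 ∨ τ * c0 * τ⁻¹ = c0 * c0) x.1.1).imp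
      (fun k => Subtype.ext (Prod.ext k (mul_inv_cancel x.1.2))) fun k => Subtype.ext (Prod.ext k (mul_inv_cancel x.1.2))
  · refine ⟨fun g => (sign (Function.invFun ψ g).1.1 = 1, sign (Function.invFun ψ g).1.2 = 1), ?_⟩
    rintro _ ⟨a, rfl⟩ _ ⟨b, rfl⟩ e k
    simp only [Function.leftInverse_invFun iψ a, Function.leftInverse_invFun iψ b] at e
    rw [← map_inv, ← map_mul] at k ⊢
    rw [← map_mul, map_eq_one_iff _ iψ] at k
    have s : ∀ a b : ℤˣ, decide (a = 1) = decide (b = 1) → a⁻¹ * b = 1 := by decide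
    refine ⟨⟨(a⁻¹ * b).1.2, by simpa [mem_alternatingGroup] using s _ _ (congrArg Prod.snd e)⟩,
      congrArg ψ (Subtype.ext (Prod.ext ?_ rfl))⟩
    exact ((by decide : ∀ τ : P3, τ * τ = 1 → sign τ = 1 → τ = 1) _ (congrArg (·.1.1) k)
      (by simpa using s _ _ (congrArg Prod.fst e))).symm

theorem not_simple (hz : orderOf z = 2) (K : Subgroup (centralizer ({z} : Set G))) [K.Normal]
    (lg : Lg (K.map (Subgroup.subtype _)) z) (es : IsExtraspecial 2 K) (hK : Nat.card K = 2 ^ 9) {B : Type*} [Group B]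
    (e : centralizer ({z} : Set G) ⧸ K ≃* B) (f : B →* P3 × P6) (inj : Function.Injective f)
    (hf : ∀ a (σ : A6), sign a = 1 → (a, σ.1) ∈ f.range) : ¬ IsSimpleGroup G := fun _ => by
  have es' := isExtraspecial_map es (centralizer ({z} : Set G)).subtype_injective
  have hQ := (Core.card_map_subtype _).trans hK
  obtain ⟨q, ⟨D⟩⟩ := exists_cd (n := 4) lg es' hQ
  have hk : D.ρh.ker = K := D.ker_ρh.trans (comap_map_eq_self_of_injective (subtype_injective _) _)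
  obtain ⟨ψ, iψ, rψ⟩ : ∃ ψ : f.range →* O q, Function.Injective ψ ∧ ψ.range = D.Γ := by
    let f : f.range ≃* D.Γ := ((MonoidHom.ofInjective inj).symm.trans e.symm).trans
      ((QuotientGroup.quotientMulEquivOfEq hk.symm).trans (QuotientGroup.quotientKerEquivRange D.ρh))
    exact ⟨D.Γ.subtype.comp f.toMonoidHom, (subtype_injective _).comp f.injective, by
      rw [MonoidHom.range_comp, MonoidHom.range_eq_top.2 f.surjective, ← MonoidHom.range_eq_map, range_subtype]⟩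
  obtain ⟨c, μ, H⟩ := hy_of hf iψ
  rw [rψ] at H
  have h1 := (inferInstance : (oddCore G).Normal).eq_bot_or_eq_top.resolve_right fun k => by
    have := (Core.odd_card_oddCore G).of_dvd_nat (k ▸ card_top (G := G) ▸ orderOf_dvd_natCard z)
    rw [hz] at this
    exact absurd this (by decide)
  have h2 : ∀ g, z * g = g * z := fun g => by
    have := ZStar.zstar ⟨hz, fun g => isolated D hQ H⟩ g
    rwa [h1, mem_bot, mul_inv_eq_one, mul_inv_eq_iff_eq_mul] at this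
  rcases Subgroup.Normal.eq_bot_or_eq_top (H := zpowers z) ⟨fun x hx g => by
    rcases D.lg.mem_iff.1 hx with rfl | rfl <;> simp [← h2]⟩ with k | k
  · exact D.z_ne (by simpa using k)
  · have := Subgroup.card_le_of_le (le_top.trans k.ge : K.map (Subgroup.subtype _) ≤ _)
    rw [hQ, D.lg.card_zpowers] at this
    omega

end Cfsg.Lib.S36
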