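import Cfsg.Agent.Lib.U6.Id2

/-!
# The tensor product module of `S₃ × S₆`
-/

set_option autoImplicit false

namespace Cfsg.Lib.S36

open Subgroup QuadraticMap Cfsg.Lib.Orth Cfsg.Lib.U6 Equiv Equiv.Perm

/-- Even subsets of six points modulo complements. -/
abbrev W : Type := Fin 4 → ZMod 2
/-- The symmetric group of degree six. -/
abbrev P6 : Type := Perm (Fin 6)
/-- The symmetric group of degree three. -/
abbrev P3 : Type := Perm (Fin 3)

/-- The representative avoiding the last point. -/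
def ext (x : W) : Fin 6 → ZMod 2
  | 0 => x 0 | 1 => x 1 | 2 => x 2 | 3 => x 3 | 4 => x 0 + x 1 + x 2 + x 3 | 5 => 0

/-- The first four points. -/
def up : Fin 4 → Fin 6
  | 0 => 0 | 1 => 1 | 2 => 2 | 3 => 3

/-- The action of the inverse of a permutation. -/
def acf (f : Fin 6 → Fin 6) (x : W) : W := fun i => ext x (f (up i)) + ext x (f 5)

/-- The symplectic form. -/
def be (x y : W) : ZMod 2 :=
  x 0 * y 0 + x 1 * y 1 + x 2 * y 2 + x 3 * y 3 + (x 0 + x 1 + x 2 + x 3) * (y 0 + y 1 + y 2 + y 3)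

/-- The three coordinates of a tensor. -/
def tr (v : W × W) : Fin 3 → W
  | 0 => v.1 | 1 => v.2 | 2 => v.1 + v.2

/-- The action on tensors. -/
def mo (t : Fin 3 → Fin 3) (f : Fin 6 → Fin 6) (v : W × W) : W × W := (acf f (tr v (t 0)), acf f (tr v (t 1)))

variable {x y x' y' : W} {v : W × W} {σ σ' : P6} {τ : P3}

theorem ext_add (x y : W) (j : Fin 6) : ext (x + y) j = ext x j + ext y j := by
  fin_cases j <;> simp only [ext, Pi.add_apply] <;> ring
theorem acf_add (f : Fin 6 → Fin 6) (x y : W) : acf f (x + y) = acf f x + acf f y := by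
  funext i; simp only [acf, ext_add, Pi.add_apply]; ring
theorem sum_ext (σ : P6) (x : W) : ∑ j, ext x (σ j) = 0 := by
  rw [Equiv.sum_comp σ (ext x), Fin.sum_univ_six]
  simp only [ext, add_zero, vadd_self]
theorem ext_acf (σ : P6) (x : W) (j : Fin 6) : ext (acf σ x) j = ext x (σ j) + ext x (σ 5) := by
  have := sum_ext σ x
  rw [Fin.sum_univ_six] at this
  fin_cases j
  iterate 4 rfl
  · exact (by decide : ∀ a b c d e f : ZMod 2, a + b + c + d + e + f = 0 →
      a + f + (b + f) + (c + f) + (d + f) = e + f) _ _ _ _ _ _ this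
  · exact (vadd_self _).symm
theorem be_eq (x y : W) : be x y = ∑ j, ext x j * ext y j := by
  simp only [Fin.sum_univ_six, ext, be, mul_zero, add_zero]
theorem be_acf (σ : P6) (x y : W) : be (acf σ x) (acf σ y) = be x y := by
  have h1 := sum_ext σ x
  have h2 := sum_ext σ y
  have h3 : (2 : ZMod 2) = 0 := rfl
  rw [be_eq, be_eq, ← Equiv.sum_comp σ fun j => ext x j * ext y j]
  simp only [ext_acf, Fin.sum_univ_six] at *
  linear_combination (exp := 1) ext y (σ 5) * h1 + ext x (σ 5) * h2 + 3 * ext x (σ 5) * ext y (σ 5) * h3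
theorem be_comm (x y : W) : be x y = be y x := by simp only [be]; ring
theorem be_add (x y w : W) : be x (y + w) = be x y + be x w := by simp only [be, Pi.add_apply]; ring
theorem add_be (x y w : W) : be (x + y) w = be x w + be y w := by simp only [be, Pi.add_apply]; ring
theorem be_self : ∀ x : W, be x x = 0 := by decide +kernel
theorem be_zero (x : W) : be x 0 = 0 := by simp [be]
theorem zero_be (x : W) : be 0 x = 0 := by simp [be]
theorem tr_add (u v : W × W) (i : Fin 3) : tr (u + v) i = tr u i + tr v i := by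
  fin_cases i <;> simp only [tr, Prod.fst_add, Prod.snd_add]; abel
theorem tr_mo (τ : P3) (f : Fin 6 → Fin 6) (v : W × W) (i : Fin 3) : tr (mo τ f v) i = acf f (tr v (τ i)) := by
  have : tr v (τ 0) + tr v (τ 1) + tr v (τ 2) = 0 := by
    rw [← Fin.sum_univ_three fun i => tr v (τ i), Equiv.sum_comp τ (tr v), Fin.sum_univ_three]
    exact vadd_self _
  fin_cases i
  exacts [rfl, rfl, (acf_add _ _ _).symm.trans (congrArg _ (vadd_eq_zero.1 this))]
theorem be_tr (v : W × W) {i j : Fin 3} (h : i ≠ j) : be (tr v i) (tr v j) = be v.1 v.2 := by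
  fin_cases i <;> fin_cases j <;> simp [tr, be_add, add_be, be_self, be_comm v.2] at h ⊢

/-- The quadratic form. -/
def q1 : QuadraticForm (ZMod 2) (W × W) :=
  QuadraticMap.ofPolar (fun v => be v.1 v.2)
    (fun a v => by rcases z2 a with rfl | rfl <;> simp [be_zero])
    (fun x x' y => by simp only [polar, Prod.fst_add, Prod.snd_add, be_add, add_be]; ring)
    (fun a x y => by rcases z2 a with rfl | rfl <;> simp [polar, be_zero])

theorem q1_apply (v : W × W) : q1 v = be v.1 v.2 := rfl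
theorem polar_q1 (u v : W × W) : polar q1 u v = be u.1 v.2 + be u.2 v.1 := by
  simp only [polar, q1_apply, Prod.fst_add, Prod.snd_add, be_add, add_be, be_comm v.1]; ring

theorem mo_mul (a b : P3 × P6) (v : W × W) :
    mo (a * b).1.symm (a * b).2.symm v = mo a.1.symm a.2.symm (mo b.1.symm b.2.symm v) := by
  have : ∀ x, acf (a.2 * b.2).symm x = acf a.2.symm (acf b.2.symm x) := fun x => funext fun i => by
    rw [acf, acf, ext_acf, ext_acf, add_add_add_comm, vadd_self, add_zero]; rfl
  rw [mo, mo, tr_mo, tr_mo, Prod.snd_mul, this, this]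
  rfl

theorem acf_id (x : W) : acf (1 : P6).symm x = x := funext fun i => by fin_cases i <;> exact add_zero _

/-- The representation as linear maps. -/
def Ml : P3 × P6 →* Module.End (ZMod 2) (W × W) where
  toFun a := (AddMonoidHom.mk' (mo a.1.symm a.2.symm) fun u v => by
    simp only [mo, tr_add, acf_add]; rfl).toZModLinearMap 2
  map_one' := LinearMap.ext fun v => Prod.ext (acf_id _) (acf_id _)
  map_mul' a b := LinearMap.ext (mo_mul a b)

/-- The representation. -/
def Mo : P3 × P6 →* O q1 :=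
  ((LinearMap.GeneralLinearGroup.generalLinearEquiv _ _).toMonoidHom.comp Ml.toHomUnits).codRestrict _
    fun a v => (be_acf a.2.symm _ _).trans (be_tr v (a.1.symm.injective.ne (by decide)))

theorem Mo_apply (a : P3 × P6) (v : W × W) : (Mo a).1 v = mo a.1.symm a.2.symm v := rfl

/-- The action on `W`. -/
def ac (σ : P6) (x : W) : W := acf σ.symm x

theorem Mo_one (σ : P6) (x y : W) : (Mo (1, σ)).1 (x, y) = (ac σ x, ac σ y) := rfl
theorem ac_add (σ : P6) (x y : W) : ac σ (x + y) = ac σ x + ac σ y := acf_add _ _ _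
theorem ac_zero (σ : P6) : ac σ 0 = 0 := by have := ac_add σ 0 0; rwa [add_zero, left_eq_add] at this
theorem ac_mul (σ σ' : P6) (x : W) : ac (σ * σ') x = ac σ (ac σ' x) :=
  congrArg Prod.fst (mo_mul (1, σ) (1, σ') (x, x))
theorem ac_one (x : W) : ac 1 x = x := acf_id x
theorem ac_inv (σ : P6) (x : W) : ac σ⁻¹ (ac σ x) = x := by rw [← ac_mul, inv_mul_cancel, ac_one]
theorem ac_inv' (σ : P6) (x : W) : ac σ (ac σ⁻¹ x) = x := by rw [← ac_mul, mul_inv_cancel, ac_one]
theorem ac_inj : ac σ x = ac σ y ↔ x = y := ⟨fun h => by rw [← ac_inv σ x, h, ac_inv], fun h => h ▸ rfl⟩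
theorem ac_eq_zero : ac σ x = 0 ↔ x = 0 := by rw [← ac_inj (σ := σ) (x := x), ac_zero]
theorem be_ac (σ : P6) (x y : W) : be (ac σ x) (ac σ y) = be x y := be_acf _ _ _

/-- A table of values. -/
def tb (a b c d e f : Fin 6) : Fin 6 → Fin 6
  | 0 => a | 1 => b | 2 => c | 3 => d | 4 => e | 5 => f

/-- A statement about all tables of permutations. -/
def Sw (P : (Fin 6 → Fin 6) → Prop) : Prop :=
  ∀ a b, b ≠ a → ∀ c, c ≠ a → c ≠ b → ∀ d, d ≠ a → d ≠ b → d ≠ c → ∀ e, e ≠ a → e ≠ b → e ≠ c → e ≠ d →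
    ∀ f, f ≠ a → f ≠ b → f ≠ c → f ≠ d → f ≠ e → P (tb a b c d e f)

set_option synthInstance.maxSize 2000 in
instance decSw (P : (Fin 6 → Fin 6) → Prop) [DecidablePred P] : Decidable (Sw P) := by unfold Sw; infer_instance

theorem Sw.all {P : (Fin 6 → Fin 6) → Prop} (h : Sw P) (σ : P6) : P σ := by
  have : (σ : Fin 6 → Fin 6) = tb (σ 0) (σ 1) (σ 2) (σ 3) (σ 4) (σ 5) := funext fun i => by fin_cases i <;> rfl
  rw [this]
  apply h <;> exact σ.injective.ne (by decide)

/-- A vector. -/
def w (a b c d : ZMod 2) : W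
  | 0 => a | 1 => b | 2 => c | 3 => d

/-- The pair `{4, 5}`. -/
def a0 : W := w 1 1 1 1
/-- The pair `{0, 1}`. -/
def b0 : W := w 1 1 0 0

end Cfsg.Lib.S36
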