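import Cfsg.Agent.Lib.S36.Two
import Cfsg.Agent.Lib.S36.Facts
import Cfsg.Agent.Lib.U6.Nat3

/-!
# Centralizers `2^{1+8}.Γ` with `3 × A₆ ≤ Γ ≤ S₃ × S₆`: the tensor module, weakly closed case
-/

set_option autoImplicit false

namespace Cfsg.Lib.S36

open Subgroup QuadraticMap Cfsg.Lib.ES Cfsg.Lib.Orth Cfsg.Lib.U6 Equiv Equiv.Perm Module

variable {G : Type*} [Group G] {z s u : G} {Q R : Subgroup G} {τ : P3} {σ : P6} {a x y : W} {v : W × W}

/-- The groups between `3 × A₆` and `S₃ × S₆` in the model. -/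
structure Gd (Γ : Subgroup (O q1)) : Prop where
  le : ∀ g ∈ Γ, ∃ y, Mo y = g
  ev : ∀ (a : P3) (σ : A6), sign a = 1 → Mo (a, σ) ∈ Γ

/-- Change of coordinates. -/
noncomputable def tw (D : CD z Q q1) (y : P3 × P6) : CD z Q q1 := D.congr (Mo y).1 (O.map_Q (Mo y))

theorem tw_ρ (D : CD z Q q1) (y : P3 × P6) (g : G) : (tw D y).ρ g = Mo y * D.ρ g * (Mo y)⁻¹ := rfl
theorem tw_π (D : CD z Q q1) (y : P3 × P6) (g : G) : (tw D y).π g = (Mo y).1 (D.π g) := rfl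

theorem Gd.tw {D : CD z Q q1} (h : Gd D.Γ) (y : P3 × P6) : Gd (tw D y).Γ := by
  have k : ∀ {g}, g ∈ (S36.tw D y).Γ ↔ (Mo y)⁻¹ * g * Mo y ∈ D.Γ := by
    simp only [CD.mem_Γ, tw_ρ, mul_inv_eq_iff_eq_mul]
    simp only [mul_assoc, eq_inv_mul_iff_mul_eq, implies_true]
  refine ⟨fun g hg => ?_, fun a σ ha => k.2 ?_⟩
  · obtain ⟨x, e⟩ := h.le _ (k.1 hg)
    exact ⟨y * x * y⁻¹, by simp [e, mul_assoc]⟩
  · rw [← map_inv, ← map_mul, ← map_mul]
    exact h.ev (y.1⁻¹ * a * y.1) (MulAut.conjNormal y.2⁻¹ σ) (by simp [ha])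

variable [Finite G] {D : CD z Q q1} (N : Gd D.Γ) (h : Cp z Q u R)
include h

theorem card_le_list (L : List (P3 × P6)) (hL : ∀ b ∈ R, Commute z b → ∃ y ∈ L, Mo y = D.ρ b) :
    Nat.card ↥(R ⊓ centralizer {z}) ≤ L.length * Nat.card ↥(Q ⊓ R) := by
  have k : ∀ b ∈ R, Commute z b → ∃ i, Mo (L.get i) = D.ρ b := fun b hb zb =>
    let ⟨_, h1, h2⟩ := hL b hb zb; let ⟨i, e⟩ := List.get_of_mem h1; ⟨i, e ▸ h2⟩
  have : Nonempty (Fin L.length) := (k 1 R.one_mem (Commute.one_right z)).nonempty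
  simpa using D.card_le h (Function.invFun fun i => Mo (L.get i)) fun a ha b hb za zb e => by
    rw [← Function.invFun_eq (k a ha za), e, Function.invFun_eq (k b hb zb)]

include N

theorem not_rp {x : P3 × P6} (hx : x ∈ rp) (e : D.ρ u = Mo x) : Nat.card ↥(R ⊓ centralizer {z}) ≤ 12 := by
  have ec : ∀ v, (D.ρ u).1 v + v = cm x v := fun v => e ▸ rfl
  have hD : ∀ d ∈ Q ⊓ R, d = 1 := fun d hd => by
    by_cases p : Ph z Q u
    · rcases rp1 x hx (D.π d).1 (D.π d).2 (e ▸ D.fix_inf h hd :) with k | ⟨_, -, _, -, k⟩ <;>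
        exact D.g1 h p hd ((ec _).trans k)
    by_contra d1
    obtain ⟨y, -, k⟩ := D.exists_c h p hd.1 fun a ha => h.comm_inf hd ha
    obtain ⟨g, -, h1, h2, h3, h4⟩ := (rp2 x hx).resolve_left (fun n => n (ec _ ▸ D.q_comm h.c h.uu p _ :))
      (D.π y).1 (D.π y).2 (ec _ ▸ k ▸ D.π_ne' h hd d1 :)
    obtain ⟨d', m, e'⟩ := D.g5 h p (D.not_conj h p hd d1) (N.ev _ g.2 h2) (by
      rw [e, mul_inv_eq_iff_eq_mul, ← map_mul, h1, map_mul]) hd
    rw [Prod.mk.eta, ← ec, k] at h3 h4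
    exact D.g2' h p hd m (D.π_ne' h hd d1) (e' ▸ O.apply_ne_zero _ (D.π_ne' h hd d1)) (e' ▸ h3) k
      (by rw [polar_q1, e']; exact h4)
  have := card_le_list h l12 fun b hb zb => by
    obtain ⟨⟨τ, σ⟩, e'⟩ := N.le _ (D.ρ_mem zb)
    have f : ∀ v, be (cm x v).1 (cm x v).2 = 0 → (Mo (τ, σ)).1 (cm x v) = cm x v := fun v k =>
      e' ▸ D.At_fix h hD hb zb (ec v ▸ D.At_comm h.c h.uu (ec v ▸ k :))
    obtain ⟨h1, h2⟩ := fix_p (τ := τ) (σ := σ) a0_ne (by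
      rcases rp3 x hx with k | k <;> exact k ▸ f _ (by rw [k]; exact be_zero _))
    obtain ⟨y, m, rfl, k⟩ := rp4.all σ.symm h2 τ (by simpa using h1) x hx fun v _ => f v
    exact ⟨y, m, by rw [← e', show σ = y.2 from symm_bijective.1 (Equiv.ext k)]⟩
  rwa [(eq_bot_iff_forall _).2 hD, card_bot] at this

theorem of_tv (e : D.ρ u = Mo (1, swap 4 5)) :
    (Ph z Q u → Nat.card ↥(R ⊓ centralizer {z}) ≤ 40) ∧ Nat.card ↥(R ⊓ centralizer {z}) ≤ 80 := by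
  have ec : ∀ v, (D.ρ u).1 v + v = cm (1, swap 4 5) v := fun v => e ▸ rfl
  have e1 : (D.ρ u).1 (w 1 0 0 0, 0) + (w 1 0 0 0, 0) = (a0, 0) := (ec _).trans (by decide +kernel)
  have e2 : (D.ρ u).1 (0, w 1 0 0 0) + (0, w 1 0 0 0) = (0, a0) := (ec _).trans (by decide +kernel)
  have a1 := D.At_comm h.c h.uu (by rw [e1]; exact be_zero a0)
  have a2 := D.At_comm h.c h.uu (by rw [e2]; exact zero_be a0)
  have key : (∀ b ∈ R, Commute z b → (D.ρ b).1 (a0, 0) = (a0, 0) ∧ (D.ρ b).1 (0, a0) = (0, a0)) →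
      Nat.card ↥(R ⊓ centralizer {z}) ≤ 20 * Nat.card ↥(Q ⊓ R) := fun k => card_le_list h l20 fun b hb zb => by
    obtain ⟨⟨τ, σ⟩, e'⟩ := N.le _ (D.ρ_mem zb)
    obtain ⟨rfl, h2⟩ := fix_P (τ := τ) (σ := σ) a0_ne (e' ▸ (k b hb zb).1) (e' ▸ (k b hb zb).2)
    obtain ⟨y, m, h1, k⟩ := rp5.all σ.symm h2 (by
      have := D.ρ_mul zb zb
      rw [← e', ← map_mul, ← pow_two b] at this
      rcases h.r.mem_iff.1 (h.r.sq_mem b hb) with k | k <;> rw [k] at this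
      · exact Or.inl (DFunLike.congr_fun (congrArg (·.2⁻¹) (Mo_inj (this.symm.trans (D.ρ_one.trans
          (map_one Mo).symm)))))
      · exact Or.inr (DFunLike.congr_fun (congrArg (·.2⁻¹) (Mo_inj (this.symm.trans e)))))
    exact ⟨y, m, by rw [← e', show σ = y.2 from symm_bijective.1 (Equiv.ext k), ← h1]⟩
  have ph : Ph z Q u → Nat.card ↥(R ⊓ centralizer {z}) ≤ 40 := fun p => by
    have f : ∀ b ∈ R, Commute z b → ∀ v, D.At u ((D.ρ u).1 v + v) →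
        (D.ρ b).1 ((D.ρ u).1 v + v) = (D.ρ u).1 v + v := fun b hb zb x ⟨a, ha, ua, e1⟩ => by
      obtain ⟨d', h1, h2⟩ := D.cross' h ha ua hb zb
      have := D.g1 h p h1 (v := (D.ρ b).1 x + x) (by
        rw [← h2, e1, map_add, map_add, comm_apply (D.ρ_comm h.c zb (h.cu hb)).eq, add_add_add_comm])
      rwa [this, D.π_one, vadd_eq_zero, e1] at h2
    have := key fun b hb zb => ⟨e1 ▸ f b hb zb _ a1, e2 ▸ f b hb zb _ a2⟩
    have := D.card_inf_le h p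
    omega
  refine ⟨ph, ?_⟩
  by_cases p : Ph z Q u
  · exact (ph p).trans (by omega)
  have m : ∀ d ∈ Q ⊓ R, D.π d ∈ [0, (a0, 0), (0, a0), (a0, a0)] := fun d hd => by
    obtain ⟨y, -, k⟩ := D.exists_c h p hd.1 fun a ha => h.comm_inf hd ha
    exact k ▸ ec _ ▸ tv_facts _ _
  have c : Nat.card ↥(Q ⊓ R) ≤ 4 := by
    have := Nat.card_le_card_of_injective (fun d : ↥(Q ⊓ R) => (⟨D.π d, List.mem_toFinset.2 (m d d.2)⟩ :
      [0, (a0, 0), (0, a0), (a0, a0)].toFinset)) fun a b e => Subtype.ext (D.π_inj h a.2 b.2 (congrArg Subtype.val e))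
    rw [Nat.card_eq_finsetCard] at this
    exact this.trans (List.toFinset_card_le _)
  refine (key fun b hb zb => ?_).trans (by omega)
  by_cases hD : ∀ d ∈ Q ⊓ R, d = 1
  · exact ⟨e1 ▸ D.At_fix h hD hb zb a1, e2 ▸ D.At_fix h hD hb zb a2⟩
  push Not at hD
  obtain ⟨d, hd, d1⟩ := hD
  obtain ⟨d', hd', e'⟩ := D.g5 h p (D.not_conj h p hd d1) (N.ev c0 1 (by decide)) (by
    rw [e, mul_inv_eq_iff_eq_mul, ← map_mul, ← map_mul]; rfl) hd
  have f : ∀ d ∈ Q ⊓ R, (D.ρ b).1 (D.π d) = D.π d := fun d hd =>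
    D.fix_of_commute zb hd.1 (h.symm.comm_inf ⟨hd.2, hd.1⟩ hb zb).symm
  have f1 := f d hd
  have f2 := e' ▸ f d' hd'
  have f3 : (D.ρ b).1 (_ + _) = _ := (map_add _ _ _).trans (congrArg₂ (· + ·) f1 f2)
  have := m d hd
  simp only [List.mem_cons, List.not_mem_nil, or_false, D.π_ne' h hd d1, false_or] at this
  rcases this with k | k | k <;> simp only [k, OneMemClass.coe_one, Mo_c0, Prod.mk_add_mk, add_zero, zero_add,
    vadd_self] at f1 f2 f3 <;> exact ⟨‹_›, ‹_›⟩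

theorem loc (c : 16 ≤ Nat.card ↥(R ⊓ centralizer {z})) : 64 ≤ Nat.card ↥(Q ⊓ centralizer {u}) ∧
    (¬ Ph z Q u → 128 ≤ Nat.card ↥(Q ⊓ centralizer {u})) ∧
    (Ph z Q u → Nat.card ↥(R ⊓ centralizer {z}) ≤ 40) ∧ Nat.card ↥(R ⊓ centralizer {z}) ≤ 80 := by
  obtain ⟨x, e⟩ := N.le _ (D.ρ_mem h.c)
  obtain ⟨y, k⟩ := exists_rp (x := x) (Mo_inj (by rw [map_mul, e, D.ρ_sq h.c (h.uu ▸ Q.one_mem), map_one]))
    fun k => h.nQ ((D.ker h.c).1 (by rw [← e, k, map_one]))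
  have e' : (tw D y).ρ u = Mo (y * x * y⁻¹) := by rw [tw_ρ, map_mul, map_mul, map_inv, e]
  have N' := N.tw y
  generalize tw D y = D at e' N'
  rcases k with k | k
  · rw [k] at e'
    have : Nat.card (O.fix (D.ρ u)) = 64 := by
      rw [e', Nat.subtype_card (Finset.univ.filter fun v => mo (1 : P3).symm (swap 4 5).symm v = v)
        fun v => by rw [Finset.mem_filter_univ, O.mem_fix, Mo_apply]]
      decide +kernel
    exact ⟨this ▸ D.card_cent h.c, fun n => by rw [D.card_cent' h.c n, this], of_tv N' h e'⟩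
  · have := not_rp N' h k e'
    omega

omit h in
theorem one_wc (hQ : Nat.card Q = 2 ^ 9) (wc : WC z Q) {g : G} (cz : Commute z (g * z * g⁻¹)) : g * z * g⁻¹ = z := by
  by_contra n
  have h := wc.cp D.lg cz n
  have hR := (Core.card_map_conj g Q).trans hQ
  obtain ⟨h1, h2, h3, h4⟩ := loc N h ((D.cj g).card_cent_ge hR h.symm)
  obtain ⟨h5, -, -, h6⟩ := loc (D := D.cj g) (D.cj_Γ g ▸ N) h.symm (D.card_cent_ge hQ h)
  by_cases p : Ph z Q (g * z * g⁻¹)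
  exacts [absurd (h3 p) (by omega), absurd (h2 p) (by omega)]

end Cfsg.Lib.S36
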