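import Cfsg.Agent.Lib.S36.One

/-!
# Centralizers `2^{1+8}.Γ` with `3 × A₆ ≤ Γ ≤ S₃ × S₆`: the tensor module, conjugates in `Q`
-/

set_option autoImplicit false

namespace Cfsg.Lib.S36

open Subgroup QuadraticMap Cfsg.Lib.ES Cfsg.Lib.Orth Cfsg.Lib.U6 Equiv Equiv.Perm Module

variable {G : Type*} [Group G] [Finite G] {z s u : G} {Q R : Subgroup G} {τ : P3} {σ : P6} {a a' x y : W}
  {v : W × W} {D : CD z Q q1} (N : Gd D.Γ) (hQ : Nat.card Q = 2 ^ 9) (h : Pr Q R z s) (es : IsExtraspecial 2 R)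
  (hR : Nat.card R = 2 ^ 9)

theorem mem2 : x ∈ [0, a] ↔ x = 0 ∨ x = a := by simp

include N hQ h hR in
theorem even_inv : ∃ σ : A6, σ ≠ 1 ∧ σ * σ = 1 ∧ Mo (1, σ) ∈ D.img R := by
  choose! F hF using N.le
  obtain ⟨_, h1, ⟨σ, rfl⟩, h2⟩ := D.exists_ne h hQ hR (Mo.comp ((MonoidHom.inr _ _).comp
    (alternatingGroup (Fin 6)).subtype)).range (fun g => (sign (F g).1 = 1, sign (F g).2 = 1)) fun a ha b hb e => by
      have k := (D.img_fix h (mul_mem (inv_mem ha) hb)).1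
      rw [← hF a (D.img_le ha), ← hF b (D.img_le hb), ← map_inv, ← map_mul] at k ⊢
      rw [← map_mul, map_eq_one_iff _ Mo_inj] at k
      have s : ∀ a b : ℤˣ, decide (a = 1) = decide (b = 1) → a⁻¹ * b = 1 := by decide
      refine ⟨⟨((F a)⁻¹ * F b).2, by simpa [mem_alternatingGroup] using s _ _ (congrArg Prod.snd e)⟩,
        congrArg Mo (Prod.ext ?_ rfl)⟩
      exact ((by decide : ∀ τ : P3, τ * τ = 1 → sign τ = 1 → τ = 1) _ (congrArg Prod.fst k)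
        (by simpa using s _ _ (congrArg Prod.fst e))).symm
  refine ⟨σ, fun e => h2 (e ▸ map_one _), Subtype.ext (congrArg Prod.snd (Mo_inj (a₁ := (1, σ.1) * (1, σ.1))
    (a₂ := 1) ?_)), h1⟩
  rw [map_mul, map_one]
  exact (D.img_fix h h1).1

include N hQ h es hR

theorem rank2 (e : D.π s = (a0, b0)) : False := by
  have l : ∀ g ∈ D.img R, ∃ σ, g = Mo (1, σ) ∧ ac σ a0 = a0 ∧ ac σ b0 = b0 := fun g hg => by
    obtain ⟨⟨τ, σ⟩, rfl⟩ := N.le g (D.img_le hg)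
    have h1 := D.img_fix h hg
    have h2 := (D.img_fix h (mul_mem hg (inv_mem (D.conj_mem_img h (N.ev c0 kp⁻¹ (by decide))
      (by rw [e, Mo_apply]; decide +kernel) hg)))).1
    simp only [← map_mul, ← map_inv, map_eq_one_iff _ Mo_inj] at h1 h2
    obtain rfl := pr1 τ (congrArg Prod.fst h1.1) (congrArg Prod.fst h2)
    exact ⟨σ, rfl, Prod.ext_iff.1 (e ▸ h1.2 :)⟩
  obtain ⟨σ, h1, -, h2⟩ := even_inv N hQ h hR
  have f := Prod.ext_iff.1 (e ▸ (D.img_fix h h2).2 :)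
  replace f : ac σ a0 = a0 ∧ ac σ b0 = b0 := f
  have k : ∀ g ∈ D.img R, ∀ x y, g.1 (ac σ x + x, ac σ y + y) = (ac σ x + x, ac σ y + y) := fun g hg x y => by
    obtain ⟨γ, rfl, e1, e2⟩ := l g hg
    have : ∀ x, ac γ (ac σ x + x) = ac σ x + x := fun x => by
      have := pr2 (ac σ x + x) (by rw [be_add, ← be_ac σ a0 x, f.1, vadd_self])
        (by rw [be_add, ← be_ac σ b0 x, f.2, vadd_self])
      simp only [List.mem_cons, List.not_mem_nil, or_false] at this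
      rcases this with k | k | k | k <;> simp only [k, ac_zero, ac_add, e1, e2]
    rw [Mo_one, this, this]
  have k1 : ∀ x, be b0 x = 0 → ac σ x = x := fun x hx => by
    rcases D.cx h es (D.cross h h2 (v := (x, 0)) (by rw [e, polar_q1, be_zero, hx, add_zero])) (k · · x 0) with k | k
    · exact vadd_eq_zero.1 (congrArg Prod.fst k)
    · exact absurd ((congrArg Prod.snd (k.trans e)).symm.trans (add_zero _ |>.trans (ac_zero _))) (by decide)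
  have k2 : ∀ x, be a0 x = 0 → ac σ x = x := fun x hx => by
    rcases D.cx h es (D.cross h h2 (v := (0, x)) (by rw [e, polar_q1, be_zero, hx, add_zero])) (k · · 0 x) with k | k
    · exact vadd_eq_zero.1 (congrArg Prod.snd k)
    · exact absurd ((congrArg Prod.fst (k.trans e)).symm.trans (add_zero _ |>.trans (ac_zero _))) (by decide)
  refine h1 (Subtype.ext (ac_faith fun x => ?_))
  rcases z2 (be b0 x) with e | e
  · exact k1 x e
  · rw [← vadd_cancel' x (w 1 0 1 0), ac_add, k2 (w 1 0 1 0) (by decide), k1 _ (by rw [be_add, e]; decide)]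

theorem rank1 : (D.π s).1 = 0 ∨ (D.π s).2 = 0 ∨ (D.π s).1 = (D.π s).2 := by
  by_contra! k
  obtain ⟨g, e⟩ := tr1 _ k.1
  obtain ⟨r, e1, e2⟩ := tr2 (ac g.1⁻¹ (D.π s).2) (mt ac_eq_zero.1 k.2.1) fun e' => k.2.2 (by rw [← e, ← e', ac_inv'])
  have := D.sing h (D.p_mem h)
  rw [q1_apply, ← be_ac g.1⁻¹, ← e, ac_inv] at this
  refine rank2 (N.tw (1, (g.1 * r)⁻¹)) hQ h es hR ?_
  rw [tw_π, ← Prod.mk.eta (p := D.π s), Mo_one, mul_inv_rev, ac_mul, ac_mul, ← e, ac_inv,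
    ← (e2.resolve_left fun k => by simp [this] at k).1, ac_inv]
  nth_rewrite 1 [← e1]
  rw [ac_inv]

theorem shape0 (e : D.π s = (a0, 0)) : v ∈ D.sub R ↔ be a0 v.1 = 0 ∧ v.2 ∈ [0, a0] := by
  have m0 : (a0, 0) ∈ D.sub R := e ▸ D.p_mem h
  have mk := fun v => D.apply_mem_sub h (N.ev 1 k1 rfl) (by rw [e, Mo_apply]; decide +kernel) (v := v)
  have m1 : (0, a0) ∈ D.sub R := by
    obtain ⟨σ, h1, h2, h3⟩ := even_inv N hQ h hR
    have i : σ.1.symm = σ.1 := inv_eq_of_mul_eq_one_right (congrArg Subtype.val h2)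
    have h4 := (D.img_fix h (mul_mem h3 (D.conj_mem_img h (N.ev 1 k1 rfl)
      (by rw [e, Mo_apply]; decide +kernel) h3))).1
    simp only [← map_mul, ← map_inv, map_eq_one_iff _ Mo_inj] at h4
    have h5 := (fix_p (τ := 1) (σ := σ) a0_ne (e ▸ (D.img_fix h h3).2 :)).2
    rw [ac, i] at h5
    replace h4 : σ.1 * (k1.1 * σ.1 * k1.1⁻¹) * (σ.1 * (k1.1 * σ.1 * k1.1⁻¹)) = 1 := congrArg Prod.snd h4
    rcases pr3.all σ.1 h5 (DFunLike.congr_fun (congrArg Subtype.val h2))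
      (fun i => by simpa using DFunLike.congr_fun h4 i) with k | k | ⟨y, -, k1, k2⟩
    · exact absurd (Subtype.ext (Equiv.ext k)) h1
    · simpa [show σ.1 = swap 4 5 from Equiv.ext k, mem_alternatingGroup] using σ.2
    · have := D.cross h h3 (v := (0, y)) (by rw [e, polar_q1, k1, be_zero, add_zero])
      rwa [Mo_one, Prod.mk_add_mk, ac_zero, add_zero, ac, i, k2] at this
  obtain ⟨γ, hγ, f⟩ : ∃ γ, Mo (ka, γ) ∈ D.img R ∧ ac γ a0 = a0 := by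
    by_contra! k
    rcases D.cx h es m1 (fun g hg => by
      obtain ⟨⟨τ, γ⟩, rfl⟩ := N.le g (D.img_le hg)
      obtain ⟨rfl | rfl, k'⟩ := fix_p a0_ne (e ▸ (D.img_fix h hg).2 :)
      exacts [by rw [Mo_one, k', ac_zero], absurd k' (k γ hg)]) with k | k
    exacts [a0_ne (congrArg Prod.snd k), a0_ne (congrArg Prod.snd (k.trans e))]
  have p : ∀ v ∈ D.sub R, be a0 v.1 = 0 ∧ be a0 v.2 = 0 := fun v hv =>
    ⟨by simpa [polar_q1, zero_be] using D.sing' h m1 hv, by simpa [polar_q1, zero_be] using D.sing' h m0 hv⟩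
  have A : ∀ {x}, ac γ x ∈ [0, a0] ↔ x ∈ [0, a0] := by
    intro x; rw [mem2, mem2, ac_eq_zero]; nth_rewrite 1 [← f]; rw [ac_inj]
  have le : ∀ v ∈ D.sub R, v.2 ∈ [0, a0] := fun ⟨x, y⟩ hv => by_contra fun n => by
    have key : ∀ x y x' y', (x, y) ∈ D.sub R → (x', y') ∈ D.sub R → y ∉ [0, a0] → y' ∉ [0, a0] → x ∈ [0, a0] →
        x' + y' ∉ [0, a0] := fun x y x' y' m m' n n' k k' =>
      pr5 y (p _ m).2 n y' (p _ m').2 n' x k _ k' (by rw [vadd_cancel', ← D.sing' h m m', polar_q1])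
        (by rw [vadd_cancel', ← D.sing' h m (mk _ m'), polar_q1]; rfl)
    have m := D.apply_mem_sub h (D.img_le hγ) (D.img_fix h hγ).2 hv
    rw [Mo_ka] at m
    rcases pr4 x (p _ hv).1 y (p _ hv).2 ((q1_apply (x, y)).symm.trans (D.sing h hv)) n with k | k
    · exact key _ _ _ _ hv m n (mt A.1 n) k (by rwa [← ac_add, vadd_cancel', A])
    · exact key _ _ _ _ m hv (mt A.1 n) n (A.2 k) k
  refine ⟨fun hv => ⟨(p v hv).1, le v hv⟩, fun ⟨h1, h2⟩ => ?_⟩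
  have m2 : (ac γ b0, 0) ∈ D.sub R := by
    have := D.cross h hγ (v := (0, b0)) (by rw [e, polar_q1]; decide)
    rw [Mo_ka, Prod.mk_add_mk, zero_add, add_zero] at this
    rcases mem2.1 (le _ this) with k | k <;> rw [show ac γ b0 + b0 = _ from k] at this
    exacts [this, by simpa [vadd_self] using add_mem this m1]
  obtain ⟨i, j, l, k⟩ := pr6 _ (p _ m2).1 (mt A.1 (by decide)) _ h1
  have m3 : (v.1, 0) ∈ D.sub R := by
    simpa [k, Mo_one, ac_zero] using add_mem (add_mem (Submodule.smul_mem _ i m0) (Submodule.smul_mem _ j m2))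
      (Submodule.smul_mem _ l (mk _ m2))
  rcases mem2.1 h2 with k | k
  · rwa [← k] at m3
  · simpa [← k] using add_mem m3 m1

theorem shape (e : D.π s = (a, 0)) : v ∈ D.sub R ↔ be a v.1 = 0 ∧ v.2 ∈ [0, a] := by
  obtain ⟨g, rfl⟩ := tr1 a fun k => D.p_ne h (by rw [e, k]; rfl)
  have := shape0 (v := (Mo (1, g.1⁻¹)).1 v) (N.tw (1, g.1⁻¹)) hQ h es hR (by rw [tw_π, e, Mo_one, ac_inv, ac_zero])
  rw [← Prod.mk.eta (p := v), Mo_one, ← be_ac g, ac_inv', mem2, ac_eq_zero, ← ac_inj (σ := g) (y := a0), ac_inv',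
    ← mem2, ← Mo_one] at this
  exact Iff.trans ⟨fun ⟨x, hx, e⟩ => ⟨x, hx, congrArg (Mo _).1 e⟩, fun ⟨x, hx, e⟩ => ⟨x, hx, (Mo _).1.injective e⟩⟩ this

omit h es hR in
theorem rk {x : G} (hx : x ∈ Q) (c : IsConj z x) (n : x ≠ z) :
    (D.π x).1 = 0 ∨ (D.π x).2 = 0 ∨ (D.π x).1 = (D.π x).2 := by
  obtain ⟨g, rfl⟩ := isConj_iff.1 c
  exact rank1 N hQ (D.lg.pr hx n) (D.cj g).es ((Core.card_map_conj _ _).trans hQ)

omit hQ es hR in
theorem conj_of {x : G} (e : D.π s = (a, 0)) (hx : x ∈ Q) (e' : D.π x = (y, 0)) (y0 : y ≠ 0) :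
    ∃ b, Commute z b ∧ b * s * b⁻¹ = x := by
  obtain ⟨g, rfl⟩ := tr1 a fun k => D.p_ne h (by rw [e, k]; rfl)
  obtain ⟨g', rfl⟩ := tr1 y y0
  obtain ⟨c, hc, k⟩ := D.mem_Γ.1 (N.ev 1 (g' * g⁻¹) rfl)
  obtain ⟨b, h1, -, h2⟩ := D.exists_conj h.mem_l hx (D.p_ne h) hc (by
    rw [k, e, e', Mo_one, ac_zero, Subgroup.coe_mul, ac_mul]; exact congrArg (ac _ ·, 0) (ac_inv _ _))
  exact ⟨b, h1, h2⟩

omit N hQ es hR in
theorem small {D' : CD s R q1} (e : D.π s = (a, 0)) (e' : D'.π z = (a', 0)) {f : G} (hf : f ∈ Q ⊓ R)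
    (k1 : (D.π f).1 ∈ [0, a]) (k2 : (D.π f).2 = 0) : (D'.π f).1 ∈ [0, a'] ∧ (D'.π f).2 = 0 := by
  rcases mem2.1 k1 with k | k
  · rcases (D.π_eq_zero hf.1).1 (Prod.ext k k2) with rfl | rfl <;> simp [D'.π_one, e']
  · rcases (D.π_eq_iff h.mem_l hf.1).1 (e.trans (Prod.ext k k2).symm) with rfl | rfl
    · simp [D'.π_z]
    · simp [D'.π_mul h.r.mem h.mem_r, D'.π_z, e']

omit es in
theorem same {D' : CD s R q1} (N' : Gd D'.Γ) (c : IsConj z s) (e : D.π s = (a0, 0)) (e' : D'.π z = (a0, 0))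
    {f : G} (hf : f ∈ Q ⊓ R) (k : (D.π f).2 = 0) : (D'.π f).2 = 0 := by
  have good : ∀ f ∈ Q ⊓ R, (D.π f).2 = 0 → (D.π f).1 ∉ [0, a0] →
      ((D'.π f).1 ∉ [0, a0] ∧ (D'.π f).2 = 0) ∨ (D'.π f).1 ∈ [0, a0] ∧ (D'.π f).2 = a0 := fun f hf k n => by
    rcases mem2.1 ((shape0 N' hR h.symm D.es hQ e').1 ⟨f, ⟨hf.2, hf.1⟩, rfl⟩).2 with k' | k'
    · exact Or.inl ⟨fun m => n (small h.symm e' e ⟨hf.2, hf.1⟩ m k').1, k'⟩
    obtain ⟨b, -, hb⟩ := conj_of N h e hf.1 (Prod.ext rfl k) fun k => n (by simp [k])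
    rcases rk N' hR hf.2 (isConj_iff.2 ⟨b, hb⟩) (fun k => n (by simp [k, e])) with k | k | k
    exacts [Or.inr ⟨by simp [k], k'⟩, absurd (k'.symm.trans k) a0_ne, Or.inr ⟨by simp [k, k'], k'⟩]
  by_cases n : (D.π f).1 ∈ [0, a0]
  · exact (small h e e' hf n k).2
  obtain ⟨y, y1, y2, y3⟩ := pr7 (D.π f).1
  obtain ⟨f', hf', k'⟩ := (shape0 (v := (y, 0)) N hQ h D'.es hR e).2 ⟨y1, by simp⟩
  have h1 := good f hf k n
  have h2 := good f' hf' (by rw [k']) (by rwa [k'])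
  have h3 := good _ (mul_mem hf hf') (by rw [D.π_mul hf.1 hf'.1, k', Prod.snd_add, k, add_zero])
    (by rwa [D.π_mul hf.1 hf'.1, k'])
  rw [D'.π_mul hf.2 hf'.2, Prod.fst_add, Prod.snd_add] at h3
  refine (h1.resolve_right fun h1 => ?_).2
  have A : ∀ {x y : W}, x ∈ [0, a0] → (x + y ∈ [0, a0] ↔ y ∈ [0, a0]) := by decide +kernel
  rw [A h1.1, h1.2] at h3
  rcases h2 with h2 | h2 <;> simp [h2.1, h2.2, a0_ne, vadd_self, a0_ne.symm] at h3

omit h es hR in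
theorem one_wc' : WC z Q := fun s hs c => by
  obtain ⟨g, rfl⟩ := isConj_iff.1 c
  by_contra n
  have h := D.lg.pr hs n
  have hR := (Core.card_map_conj g Q).trans hQ
  have N' : Gd (D.cj g).Γ := D.cj_Γ g ▸ N
  generalize D.cj g = D' at N'
  generalize g * z * g⁻¹ = s, Q.map (MulAut.conj g).toMonoidHom = R at *
  have wl : ∀ {z s : G} {Q R} {D : CD z Q q1}, Gd D.Γ → Nat.card Q = 2 ^ 9 → Pr Q R z s → IsExtraspecial 2 R →
      Nat.card R = 2 ^ 9 → ∃ D : CD z Q q1, Gd D.Γ ∧ D.π s = (a0, 0) := fun {z s Q R D} N hQ h es hR => by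
    obtain ⟨τ, a, e⟩ : ∃ τ a, (Mo (τ, 1)).1 (D.π s) = (a, 0) := by
      rw [← Prod.mk.eta (p := D.π s)]
      rcases rank1 N hQ h es hR with k | k | k <;> rw [k]
      exacts [⟨swap 0 1, _, Prod.ext rfl (ac_zero 1)⟩, ⟨1, _, Prod.ext rfl (ac_zero 1)⟩,
        ⟨c0, _, by rw [Mo_c0, vadd_self]⟩]
    obtain ⟨g, rfl⟩ := tr1 a fun k => O.apply_ne_zero _ (D.p_ne h) (by rw [e, k]; rfl)
    exact ⟨_, (N.tw _).tw (1, g.1⁻¹), by rw [tw_π, tw_π, e, Mo_one, ac_inv, ac_zero]⟩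
  obtain ⟨D, N, e⟩ := wl N hQ h D'.es hR
  obtain ⟨D', N', e'⟩ := wl N' hR h.symm D.es hQ
  obtain ⟨u, hu, eu⟩ := D'.π_surj (w 1 0 0 0, 0)
  obtain ⟨b, sb, rfl⟩ := conj_of N' h.symm e' hu eu (by decide)
  have sU : s ∈ Q.map (MulAut.conj b).toMonoidHom := ⟨s, hs, mul_inv_eq_iff_eq_mul.2 sb.eq.symm⟩
  have h' : Pr R _ s _ := ⟨D'.lg, D.lg.conj b, hu, sU, fun k => by
    rw [k, D'.π_z] at eu; exact absurd (congrArg Prod.fst eu) (by decide)⟩
  have zu := (D'.comm h.mem_r hu).2 (by rw [e', eu, polar_q1]; decide)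
  have uQ : b * z * b⁻¹ ∉ Q := fun k => absurd ((shape0 N' hR h.symm D.es hQ e').1 ⟨_, ⟨hu, k⟩, eu⟩).1 (by decide)
  have zU : z ∉ Q.map (MulAut.conj b).toMonoidHom := fun k => uQ (by
    simpa using Core.mem_map_conj.1 (D.lg.mem_conj (g := b⁻¹) (by simpa using Core.mem_map_conj.1 k)))
  have sy : ∀ m, m * z * m⁻¹ ∈ Q.map (MulAut.conj b).toMonoidHom →
      b * z * b⁻¹ ∈ Q.map (MulAut.conj m).toMonoidHom := fun m k => by
    have := (D.lg.conj b).mem_conj (g := m * b⁻¹) (by simpa [mul_assoc] using k)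
    simpa [Core.mem_map_conj, mul_assoc] using this
  have sh := fun v => shape (v := v) N' hR h' (D.cj b).es ((Core.card_map_conj _ _).trans hQ) eu
  have lU := D.lg.conj b
  generalize b * z * b⁻¹ = u, Q.map (MulAut.conj b).toMonoidHom = U at *
  obtain ⟨⟨τ, γ⟩, eρ⟩ := N.le _ (D.ρ_mem zu)
  obtain ⟨hτ, f0⟩ := fix_p (τ := τ) (σ := γ) a0_ne (by
    rw [eρ, ← e]; exact (D.img_fix h (D.mem_img.2 ⟨u, hu, zu, rfl⟩)).2)
  have f1 : ∀ y, be a0 y = 0 → ac γ y = y := fun y hy => by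
    obtain ⟨f, hf, k⟩ := (shape0 (v := (y, 0)) N hQ h D'.es hR e).2 ⟨hy, by simp⟩
    have := D.fix_of_commute zu hf.1 ((D'.comm hu hf.2).2 (by
      rw [eu, polar_q1, same N hQ h hR N' c e e' hf (by rw [k]), be_zero, zero_be, add_zero]))
    rw [k, ← eρ] at this
    rcases hτ with rfl | rfl
    exacts [congrArg Prod.fst this, by simpa [Mo_ka] using congrArg Prod.fst this]
  obtain rfl : γ = 1 := by
    obtain ⟨f, hf, k⟩ := (shape0 (v := (w 0 0 1 1, 0)) N' hR h.symm D.es hQ e').2 (by decide)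
    obtain ⟨f', hf', k'⟩ := (sh (w 0 0 1 1, 0)).2 (by decide)
    have fU : f ∈ U := by
      rcases (D'.π_eq_iff hf'.1 hf.1).1 (k'.trans k.symm) with k | k <;> rw [k]
      exacts [hf'.2, mul_mem hf'.2 sU]
    have k2 := same N' hR h.symm hQ N c.symm e' e hf (by rw [k])
    have k1 : (D.π f).1 ∉ [0, a0] := fun m => absurd (k ▸ (small h e e' ⟨hf.2, hf.1⟩ m k2).1) (by decide)
    obtain ⟨m, -, hm⟩ := conj_of N h e hf.2 (Prod.ext rfl k2) fun k => k1 (by simp [k])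
    obtain ⟨m, rfl⟩ := isConj_iff.1 (c.trans (isConj_iff.2 ⟨m, hm⟩))
    have p := D.lg.pr hf.2 fun k => k1 (by simp [k, D.π_z])
    refine inv_eq_one.1 (Equiv.ext (pr8.all γ.symm f0 (f1 _ (by decide)) (f1 _ (by decide)) _ k1 fun y hy => ?_))
    have := ((shape N hQ p (D.cj m).es ((Core.card_map_conj _ _).trans hQ) (Prod.ext rfl k2)).1 (D.cross p
      (D.mem_img.2 ⟨u, sy m fU, zu, rfl⟩) (v := (0, y)) (by rw [polar_q1, hy, k2, be_zero, add_zero]))).2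
    rw [← eρ, mem2] at this
    rcases hτ with rfl | rfl <;> exact this
  obtain rfl := hτ.resolve_left fun k => uQ ((D.ker zu).1 (by rw [← eρ, k]; exact map_one _))
  have ek : ∀ v, (D.ρ u).1 v + v = (v.2, 0) := fun ⟨x, y⟩ => by
    rw [← eρ, Mo_ka, ac_one, ac_one, Prod.mk_add_mk, vadd_self, add_right_comm, vadd_self, zero_add]
  have uu := lU.mul_self
  have mc : ∀ x ∈ Q, x * u * x⁻¹ * u⁻¹ ∈ Q := fun x hx => by
    rw [mul_assoc, mul_assoc, ← mul_assoc u]; exact Q.mul_mem hx (D.conj_mem zu (Q.inv_mem hx))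
  have lift : ∀ t : A6, ∃ g, Commute z g ∧ Commute u g ∧ D.ρ g = Mo (1, t * t) := fun t => by
    obtain ⟨a, ha, ea⟩ := D.mem_Γ.1 (N.ev 1 t rfl)
    have m := D.mul_inv_mem ((ha.mul_right zu).mul_right ha.inv_right) zu (by
      rw [D.ρ_conj ha zu, ea, ← eρ, mul_inv_eq_iff_eq_mul, ← map_mul, ← map_mul]; simp)
    have i : u⁻¹ = u := inv_eq_of_mul_eq_one_right uu
    have k := D.π_conj zu m
    rw [show u * (a * u * a⁻¹ * u⁻¹) * u⁻¹ = (u * u * (a * u * a⁻¹)⁻¹ * u⁻¹)⁻¹ * 1 by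
      simp only [mul_inv_rev, inv_inv, i, uu, mul_assoc, one_mul, mul_one], mul_one, uu, one_mul,
      show (a * u * a⁻¹)⁻¹ = a * u * a⁻¹ by simp only [mul_inv_rev, inv_inv, i, mul_assoc], D.π_inv m, eq_comm,
      ← vadd_eq_zero, ek] at k
    obtain ⟨x, hx, ex⟩ := D.π_surj (0, (D.π (a * u * a⁻¹ * u⁻¹)).1)
    have zx := (D.cz hx).inv_right.mul_right ha
    refine ⟨x⁻¹ * a * (x⁻¹ * a), zx.mul_right zx, ?_, by
      rw [D.ρ_mul zx zx, D.ρ_mem_mul (Q.inv_mem hx) ha, ea, ← map_mul]; rfl⟩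
    rw [commute_iff_eq, eq_comm, ← mul_inv_eq_iff_eq_mul,
      show x⁻¹ * a * (x⁻¹ * a) * u * (x⁻¹ * a * (x⁻¹ * a))⁻¹ =
        x⁻¹ * a * (x⁻¹ * a * u * (x⁻¹ * a)⁻¹) * (x⁻¹ * a)⁻¹ by group]
    rcases (D.π_eq_iff (mc x hx) m).1 (by
      rw [D.π_c zu hx, ek, ex]; exact Prod.ext rfl (congrArg Prod.fst k).symm) with k | k
    · have : x⁻¹ * a * u * (x⁻¹ * a)⁻¹ = u := by
        rw [show x⁻¹ * a * u * (x⁻¹ * a)⁻¹ = x⁻¹ * (a * u * a⁻¹) * x by group, mul_right_cancel k]; group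
      rw [this, this]
    · have : x⁻¹ * a * u * (x⁻¹ * a)⁻¹ = u * z := by
        rw [mul_assoc _ _ z, ← zu.inv_right.eq, ← mul_assoc] at k
        rw [show x⁻¹ * a * u * (x⁻¹ * a)⁻¹ = x⁻¹ * (a * u * a⁻¹) * x by group, mul_right_cancel k, mul_assoc _ _ z,
          ← (D.cz hx).inv_right.eq]
        group
      rw [this, ← mul_assoc, mul_assoc _ z, zx.inv_right.eq, ← mul_assoc, this, mul_assoc, D.zz, mul_one]
  obtain ⟨x, hx, ex⟩ := D.π_surj (0, a0)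
  have fin : ∀ t : A6, ac (t * t) (ac (t * t) a0) = a0 + ac (t * t) a0 → ∃ g, Commute z g ∧ Commute u g ∧
      (g * g * (x * u * x⁻¹ * u⁻¹) * (g * g)⁻¹ = x * (g * (x * u * x⁻¹ * u⁻¹) * g⁻¹) * x⁻¹ * (x * u * x⁻¹ * u⁻¹)) ∧
      polar q1 (D.π x) (D.π (g * (x * u * x⁻¹ * u⁻¹) * g⁻¹)) = be a0 (ac (t * t) a0) := fun t ht => by
    obtain ⟨g, h1, h2, h3⟩ := lift t
    refine ⟨g, h1, h2, ?_, by rw [D.π_conj h1 (mc x hx), D.π_c zu hx, ek, ex, h3, Mo_one, polar_q1, zero_be, zero_add]⟩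
    have cj : ∀ g y, Commute u g → g * (y * u * y⁻¹ * u⁻¹) * g⁻¹ = g * y * g⁻¹ * u * (g * y * g⁻¹)⁻¹ * u⁻¹ :=
      fun g y k => by
        have : g * u * g⁻¹ = u := mul_inv_eq_iff_eq_mul.2 k.eq.symm
        nth_rewrite 3 4 [← this]
        group
    have m := D.conj_mem h1 hx
    rw [cj _ _ (h2.mul_right h2), cj _ _ h2]
    rcases (D.π_eq_iff (mul_mem hx m) (D.conj_mem (h1.mul_right h1) hx)).1 (by
      rw [D.π_mul hx m, D.π_conj h1 hx, D.π_conj (h1.mul_right h1) hx, D.ρ_mul h1 h1, O.mul_apply, ex, h3,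
        Mo_one, Mo_one, ac_zero, ac_zero, ht, Prod.mk_add_mk, add_zero]) with k | k <;> rw [k]
    · group
    · rw [mul_inv_rev _ z, mul_assoc _ z, zu.eq, mul_assoc _ (u * z), mul_assoc u, mul_inv_cancel_left]
      group
  have nU : ∀ {g}, Commute u g → g * s * g⁻¹ ∈ U := fun k =>
    (mem_normalizer_iff.1 (lU.norm (commute_iff_mem.1 k)) s).1 sU
  rcases (D.π_eq_iff hs (mc x hx)).1 (by rw [D.π_c zu hx, ek, ex, e]) with k | k
  · obtain ⟨g, h1, h2, h3, h4⟩ := fin k2 (by decide +kernel)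
    rw [k] at h3 h4
    rw [D.conj_eq_of_not hx (D.conj_mem h1 hs) (by rw [h4]; decide +kernel)] at h3
    exact zU ((U.mul_mem_cancel_left (nU h2)).1 ((U.mul_mem_cancel_right sU).1 (h3 ▸ nU (h2.mul_right h2))))
  · obtain ⟨g, h1, h2, h3, h4⟩ := fin kp (by decide +kernel)
    rw [← ((D.comm hx (D.conj_mem h1 (mc x hx))).2 (by rw [h4]; decide +kernel)).symm.eq, mul_inv_cancel_right,
      k] at h3
    have e : ∀ {g}, Commute z g → g * (s * z) * g⁻¹ = g * s * g⁻¹ * z := fun k => by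
      rw [← mul_assoc, mul_assoc _ z, k.inv_right.eq, ← mul_assoc]
    rw [e h1, e (h1.mul_right h1), mul_assoc _ z, ← mul_assoc z, h.comm, mul_assoc s, D.zz, mul_one] at h3
    exact zU ((U.mul_mem_cancel_left (nU (h2.mul_right h2))).1 (h3 ▸ mul_mem (nU h2) sU))

end Cfsg.Lib.S36
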