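import Cfsg.Agent.Lib.S36.Model
import Cfsg.Agent.Lib.ThreeTr.SymPres

/-!
# Computations in `A₆`
-/

set_option autoImplicit false

namespace Cfsg.Lib.S36

open Subgroup Equiv Equiv.Perm

/-- The alternating group of degree six. -/
abbrev A6 : Type := alternatingGroup (Fin 6)

/-- A product of two transpositions. -/
def sw (i j k l : Fin 6) (h : i ≠ j ∧ k ≠ l := by decide) : A6 :=
  ⟨swap i j * swap k l, by simp [mem_alternatingGroup, h.1, h.2]⟩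

/-- `(0 1 2)` -/
def k1 : A6 := sw 0 1 1 2
/-- `(3 4 5)` -/
def k2 : A6 := sw 3 4 4 5
/-- `(2 3 4)` -/
def k5 : A6 := sw 2 3 3 4
/-- `(0 2 4)(1 3 5)` -/
def kp : A6 := sw 0 2 2 4 * sw 1 3 3 5
/-- `(0 1)(2 3)` -/
def v1 : A6 := sw 0 1 2 3
/-- `(0 2)(1 3)` -/
def v2 : A6 := sw 0 2 1 3
/-- `(0 1)(4 5)` -/
def n0 : A6 := sw 0 1 4 5
/-- `(0 3)(1 4 2 5)` -/
def j0 : A6 := sw 0 3 1 4 * sw 2 5 4 5

variable {S : Subgroup A6}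

theorem gen4 (h1 : v1 ∈ S) (h2 : v2 ∈ S) (h3 : k1 ∈ S) (σ : A6) (e4 : σ.1 4 = 4) (e5 : σ.1 5 = 5) : σ ∈ S := by
  obtain ⟨i, j, k, e⟩ := Sw.all (P := fun f => f 4 = 4 → f 5 = 5 → ∃ i j : Fin 2, ∃ k : Fin 3,
    (∀ t, f t = (v1 ^ i.1 * v2 ^ j.1 * k1 ^ k.1).1 t) ∨ ∀ t, f t = ((v1 ^ i.1 * v2 ^ j.1 * k1 ^ k.1).1 * swap 0 1 : P6) t)
    (by decide +kernel) σ.1 e4 e5
  have m := mul_mem (mul_mem (pow_mem h1 i) (pow_mem h2 j)) (pow_mem h3 k)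
  generalize v1 ^ i.1 * v2 ^ j.1 * k1 ^ k.1 = a at e m
  rcases e with e | e
  · exact (Subtype.ext (Equiv.ext e) : σ = a) ▸ m
  · have := congrArg sign (Equiv.ext e)
    simp [mem_alternatingGroup.1 σ.2, mem_alternatingGroup.1 a.2] at this

theorem genS (h1 : v1 ∈ S) (h2 : v2 ∈ S) (h3 : k1 ∈ S) (h4 : n0 ∈ S) (σ : A6) (e : ac σ a0 = a0) : σ ∈ S := by
  rw [← inv_mem_iff]
  rcases Sw.all (P := fun f => acf f a0 = a0 → f 4 = 4 ∧ f 5 = 5 ∨ f 5 = 4 ∧ f 4 = 5)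
    (by decide +kernel) σ.1.symm e with k | k
  · exact gen4 h1 h2 h3 _ k.1 k.2
  · exact (mul_mem_cancel_right h4).1 (gen4 h1 h2 h3 _ k.1 k.2)

theorem gen5 (h1 : k1 ∈ S) (h2 : k5 ∈ S) (σ : A6) (e5 : σ.1 5 = 5) : σ ∈ S := by
  obtain ⟨g, hg, e⟩ := (by decide +kernel : ∀ i, i ≠ 5 → ∃ g ∈ [k1 * k5, k1 * k1 * k5, k5, k5 * k5, 1],
    g.1 4 = i ∧ g.1 5 = 5) (σ.1 4) (e5 ▸ σ.1.injective.ne (by decide))
  have m : g ∈ S := by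
    simp only [List.mem_cons, List.not_mem_nil, or_false] at hg
    rcases hg with rfl | rfl | rfl | rfl | rfl <;> simp only [mul_mem, one_mem, h1, h2]
  refine (mul_mem_cancel_left (inv_mem m)).1 (gen4 ?_ ?_ h1 _ (Perm.inv_eq_iff_eq.2 e.1.symm)
    (Perm.inv_eq_iff_eq.2 (e5.trans e.2.symm)))
  · rw [show v1 = k1 * k5 * k1 * k1 * k5 * k5 * k1 by decide +kernel]
    repeat' with_reducible first | assumption | apply mul_mem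
  · rw [show v2 = k1 * k5 * k1 * k5 * k5 by decide +kernel]
    repeat' with_reducible first | assumption | apply mul_mem

theorem gen6 (h : ∀ g, g * k1 * g⁻¹ ∈ S) (σ : A6) : σ ∈ S := by
  have h1 : k1 ∈ S := by simpa using h 1
  have h2 : k5 ∈ S := (by decide +kernel : sw 0 3 1 4 * k1 * (sw 0 3 1 4)⁻¹ = k5) ▸ h _
  by_cases e : σ.1 5 = 5
  · exact gen5 h1 h2 σ e
  obtain ⟨g, -, e⟩ := (by decide +kernel : ∀ i, i ≠ 5 → ∃ g ∈ [sw 2 5 3 5, sw 1 5 2 5, sw 1 5 3 5, sw 1 5 2 3,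
    sw 1 5 2 4], (g * k1 * g⁻¹).1 5 = i) _ e
  exact (mul_mem_cancel_left (inv_mem (h g))).1 (gen5 h1 h2 _ (Perm.inv_eq_iff_eq.2 e.symm))

theorem genV (h1 : v1 ∈ S) (h2 : v2 ∈ S) (h3 : k2 ∈ S) : k1 ∈ S := by
  rw [show k1 = v1 * k2 * v2 * k2 * k2 * v1 * v2 * k2 * v1 * k2 * k2 by decide +kernel]
  repeat' with_reducible first | assumption | apply mul_mem

theorem tr1 (x : W) (h : x ≠ 0) : ∃ g : A6, ac g a0 = x :=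
  let ⟨g, _, e⟩ := (by decide +kernel : ∀ x : W, x ≠ 0 → ∃ g ∈ [sw 0 4 1 5, sw 0 4 2 5, sw 0 4 3 5, sw 0 1 1 5,
    sw 1 4 2 5, sw 1 4 3 5, sw 1 2 2 5, sw 2 4 3 5, sw 2 3 3 5, sw 3 5 4 5, 1, sw 3 4 4 5, sw 2 3 3 4,
    sw 1 2 2 4, sw 0 1 1 4], ac g.1 a0 = x) x h
  ⟨g, e⟩

theorem tr2 (y : W) (h : y ≠ 0) (h' : y ≠ a0) :
    ∃ g : A6, ac g a0 = a0 ∧ (ac g (ac k2 a0) = y ∧ be a0 y = 1 ∨ ac g b0 = y ∧ be a0 y = 0) :=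
  let ⟨g, _, e⟩ := (by decide +kernel : ∀ y : W, y ≠ 0 → y ≠ a0 → ∃ g ∈ [1, sw 1 2 4 5, sw 1 3 2 3, sw 0 3 4 5,
    sw 0 1 1 2, sw 0 1 1 3, sw 1 3 4 5, sw 0 2 1 3, sw 2 3 4 5, sw 1 2 2 3],
    ac g.1 a0 = a0 ∧ (ac g.1 (ac k2.1 a0) = y ∧ be a0 y = 1 ∨ ac g.1 b0 = y ∧ be a0 y = 0)) y h h'
  ⟨g, e⟩

theorem invol (σ : P6) (h : σ * σ = 1) : ∃ g : A6, g * σ * g.1⁻¹ ∈ [1, swap 4 5, v1.1, v1.1 * swap 4 5] := by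
  obtain ⟨g, -, r, hr, e⟩ := Sw.all (P := fun f => (∀ i, f (f i) = i) → ∃ g ∈ [1, sw 3 4 4 5, sw 3 5 4 5, sw 1 2 2 4,
    sw 1 2 2 5, sw 1 4 2 4, sw 1 4 4 5, sw 1 4 2 5, sw 0 4 2 4, sw 0 4 4 5, sw 0 4 3 5, sw 0 4 2 5,
    sw 1 4 2 4 * sw 3 5 4 5, sw 2 4 3 5, sw 1 2 2 3, sw 1 3 2 5, sw 0 4 1 5, sw 2 4 3 4, sw 2 4 4 5, sw 1 2 4 5,
    sw 1 2 3 4, sw 1 2 3 5, sw 1 3 3 4, sw 1 3 3 5, sw 1 3 2 4, sw 1 4 3 4, sw 1 4 3 5, sw 1 4 2 3, sw 1 5 2 5,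
    sw 1 5 3 5, sw 1 5 3 4, sw 1 5 2 4, sw 0 4 1 4, sw 0 4 3 4, sw 0 5 2 5, sw 0 5 3 5, sw 0 5 3 4, sw 0 5 2 4,
    sw 1 2 2 4 * sw 3 5 4 5, sw 1 2 2 5 * sw 3 4 4 5, sw 1 4 2 5 * sw 3 4 4 5, sw 0 4 1 4 * sw 2 4 3 5,
    sw 0 4 1 4 * sw 2 5 3 4, sw 0 4 1 5 * sw 2 4 3 4, sw 0 4 1 5 * sw 2 4 4 5],
    ∃ r ∈ ([1, swap 4 5, v1.1, v1.1 * swap 4 5] : List P6), ∀ i, g.1 (f i) = r (g.1 i))
    (by decide +kernel) σ fun i => DFunLike.congr_fun h i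
  exact ⟨g, (mul_inv_eq_iff_eq_mul.2 (Equiv.ext e : g * σ = r * g)).symm ▸ hr⟩

theorem invol' (σ : A6) (h : σ * σ = 1) (h1 : σ ≠ 1) : ∃ g : A6, g * σ * g⁻¹ = v1 := by
  obtain ⟨g, e⟩ := invol σ.1 (congrArg Subtype.val h)
  have s := mem_alternatingGroup.1 (g * σ * g⁻¹).2
  have s' := mem_alternatingGroup.1 v1.2
  simp only [List.mem_cons, List.not_mem_nil, or_false] at e
  rcases e with e | e | e | e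
  · exact absurd (conj_eq_one_iff.1 (Subtype.ext e : g * σ * g⁻¹ = 1)) h1
  · simp [show (g * σ * g⁻¹).1 = _ from e] at s
  · exact ⟨g, Subtype.ext e⟩
  · simp [show (g * σ * g⁻¹).1 = _ from e, s'] at s

end Cfsg.Lib.S36
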