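import Cfsg.Agent.Lib.S36.Id2

/-!
# Centralizers `2^{1+8}.Γ` with `3 × A₆ ≤ Γ ≤ S₃ × S₆`: the case `V₆ ⊥ V₂`
-/

set_option autoImplicit false

namespace Cfsg.Lib.U6.CD

open Subgroup QuadraticMap Cfsg.Lib.ES Cfsg.Lib.Orth Cfsg.Lib.S36 Equiv Equiv.Perm Module

variable {G : Type*} [Group G] [Finite G] {z s : G} {Q R : Subgroup G} {V V' : Type*} [AddCommGroup V]
  [Module (ZMod 2) V] {q : QuadraticForm (ZMod 2) V} [AddCommGroup V'] [Module (ZMod 2) V']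
  {q' : QuadraticForm (ZMod 2) V'} {μ : A6 →* O q} {c g : O q} {v : V} (D : CD z Q q) (h : Pr Q R z s)
include h

omit [Finite G] in
theorem p_ne : D.π s ≠ 0 := D.π_ne h.mem_l h.r.ne_one h.ne
omit [Finite G] in
theorem p_mem : D.π s ∈ D.sub R := ⟨s, ⟨h.mem_l, h.r.mem⟩, rfl⟩
omit [Finite G] in
theorem sing' {u : V} (hu : u ∈ D.sub R) (hv : v ∈ D.sub R) : polar q u v = 0 := by
  have := D.sing h (add_mem hu hv)
  rwa [Q_add, D.sing h hu, D.sing h hv, zero_add, zero_add] at this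
omit [Finite G] h in
theorem img_le : D.img R ≤ D.Γ := fun _ hg => let ⟨_, _, k, e⟩ := D.mem_img.1 hg; e ▸ D.ρ_mem k

theorem cx (es : IsExtraspecial 2 R) (hv : v ∈ D.sub R) (k : ∀ g ∈ D.img R, g.1 v = v) : v = 0 ∨ v = D.π s := by
  obtain ⟨y, hy, rfl⟩ := hv
  have : y ∈ centralizer ((R ⊓ centralizer {z} : Subgroup G) : Set G) := fun r hr => by
    have zr := commute_iff_mem.2 hr.2
    refine (h.r.conj_eq_or hr.1 hy.2).elim mul_inv_eq_iff_eq_mul.1 fun e' => ?_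
    have := D.π_conj zr hy.1
    rw [e', D.π_mul h.mem_l hy.1, k _ (D.mem_img.2 ⟨r, hr.1, zr, rfl⟩), add_eq_right] at this
    exact absurd this (D.p_ne h)
  rcases h.symm.mem_iff.1 (h.symm.centralizer_inf_le es this) with rfl | rfl | rfl | rfl
  exacts [Or.inl D.π_one, Or.inr rfl, Or.inl D.π_z, Or.inr (D.π_mul_z h.mem_l)]

theorem chain (D' : CD s R q') (hg : g ∈ D.Γ) (e : g.1 (D.π s) = D.π s) (h1 : ∀ k ∈ D.img R, g * k = k * g)
    (h2 : ∀ v ∈ D.sub R, g.1 v = v) : g ^ 4 ∈ D.img R := by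
  obtain ⟨a, ha, rfl⟩ := D.mem_Γ.1 hg
  obtain ⟨b, hb, e1, e2⟩ := D.exists_conj h.mem_l h.mem_l (D.p_ne h) ha e
  have sb : Commute s b := (mul_inv_eq_iff_eq_mul.1 e2).symm
  rw [← e1] at h1 h2 ⊢
  refine D.mem_img.2 ⟨b ^ 4, (D'.ker (sb.pow_right 4)).1 ?_, hb.pow_right 4, D.ρ_pow hb 4⟩
  let M : V' →ₗ[ZMod 2] V' := (D'.ρ b).1.toLinearMap + .id
  have hM : ∀ x ∈ R, M (D'.π x) = D'.π (b * x * b⁻¹ * x⁻¹) := fun x hx => (D'.π_comm sb hx).symm
  have m : ∀ x ∈ R, b * x * b⁻¹ * x⁻¹ ∈ R := fun x hx => mul_mem (D'.conj_mem sb hx) (inv_mem hx)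
  have fz := D'.fix_of_commute sb h.mem_r hb.symm
  have k : ∀ v, M (M (M (M v))) = 0 := fun v => by
    obtain ⟨x, hx, rfl⟩ := D'.π_surj v
    have zy := (D'.comm h.mem_r (m x hx)).2 (by rw [D'.π_comm sb hx]; exact polar_fix _ fz _)
    have hy := m x hx
    rw [hM x hx]
    generalize b * x * b⁻¹ * x⁻¹ = y at zy hy
    have hw := (D.ker (((hb.mul_right zy).mul_right hb.inv_right).mul_right zy.inv_right)).1 (by
      rw [D.ρ_mul ((hb.mul_right zy).mul_right hb.inv_right) zy.inv_right, D.ρ_conj hb zy, D.ρ_inv zy,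
        h1 _ (D.mem_img.2 ⟨y, hy, zy, rfl⟩), mul_inv_cancel_right, mul_inv_cancel])
    have hw' := m y hy
    rw [hM y hy]
    generalize b * y * b⁻¹ * y⁻¹ = w at hw hw'
    rw [hM w hw']
    rcases D.conj_of_fix hb hw (h2 _ ⟨w, ⟨hw, hw'⟩, rfl⟩) with e | e <;> rw [e]
    · rw [mul_inv_cancel, D'.π_one, map_zero]
    · rw [← (D.cz hw).eq, mul_inv_cancel_right]; exact vadd_eq_zero.2 fz
  refine (D'.ρ_pow sb 4).trans (O.ext fun v => vadd_eq_zero.1 (Eq.trans ?_ (k v)))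
  simp only [M, pow_succ, pow_zero, one_mul, O.mul_apply, O.one_apply, LinearMap.add_apply, LinearEquiv.coe_coe,
    LinearMap.id_apply, map_add]
  refine (one_smul (ZMod 2) _).symm.trans ?_
  match_scalars <;> decide

theorem exists_ne (hQ : Nat.card Q = 2 ^ 9) (hR : Nat.card R = 2 ^ 9) (K : Subgroup (O q)) (f : O q → Bool × Bool)
    (hf : ∀ a ∈ D.img R, ∀ b ∈ D.img R, f a = f b → a⁻¹ * b ∈ K) : ∃ e ∈ D.img R, e ∈ K ∧ e ≠ 1 := by
  have := D.finite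
  have c1 := card_le_of_le_perp D.nd (W := D.sub R) fun a ha => mem_perp.2 fun b hb => D.sing' h hb ha
  have c2 := D.card_pair h (hR.trans hQ.symm)
  have c3 := card_le_mul _ K f hf
  rw [D.card_V' hQ] at c1
  by_contra! k
  rw [(eq_bot_iff_forall (D.img R ⊓ K)).2 fun x hx => k x hx.1 hx.2, card_bot] at c3
  simp only [Nat.card_eq_fintype_card, Fintype.card_prod, Fintype.card_bool] at c3
  have : Nat.card (D.sub R) ≤ 16 := by nlinarith
  nlinarith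

theorem comm_three (hc : c ∈ D.Γ) (c3 : c * c * c = 1) (e : c.1 (D.π s) = D.π s) (hg : g ∈ D.img R)
    (k : g * c * g⁻¹ = c * c) : c = 1 := by
  have := (D.img_fix h (mul_mem hg (inv_mem (D.conj_mem_img h hc e hg)))).1
  rw [show g * (c * g * c⁻¹)⁻¹ = g * c * g⁻¹ * c⁻¹ by group, k, mul_inv_cancel_right] at this
  rwa [this, one_mul] at c3

end Cfsg.Lib.U6.CD

namespace Cfsg.Lib.S36

open Subgroup QuadraticMap Cfsg.Lib.ES Cfsg.Lib.Orth Cfsg.Lib.U6 Equiv Equiv.Perm Module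

variable {G : Type*} [Group G] [Finite G] {z s : G} {Q R : Subgroup G} {V V' : Type*} [AddCommGroup V]
  [Module (ZMod 2) V] {q : QuadraticForm (ZMod 2) V} [AddCommGroup V'] [Module (ZMod 2) V']
  {q' : QuadraticForm (ZMod 2) V'} {μ : A6 →* O q} {c g : O q} {v : V}

/-- A group between `3 × A₆` and `S₃ × S₆`. -/
structure Hy (Γ : Subgroup (O q)) (c : O q) (μ : A6 →* O q) : Prop where
  c3 : c * c * c = 1
  c1 : c ≠ 1
  cm : ∀ σ, c * μ σ = μ σ * c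
  inj : Function.Injective μ
  cΓ : c ∈ Γ
  μΓ : ∀ σ, μ σ ∈ Γ
  nm : ∀ g ∈ Γ, ∃ b : P6, ∀ σ, g * μ σ * g⁻¹ = μ (MulAut.conjNormal b σ)
  nc : ∀ g ∈ Γ, g * c * g⁻¹ = c ∨ g * c * g⁻¹ = c * c
  i4 : ∃ f : O q → Bool × Bool, ∀ a ∈ Γ, ∀ b ∈ Γ, f a = f b → a⁻¹ * b * (a⁻¹ * b) = 1 → a⁻¹ * b ∈ μ.range

theorem two (D : CD z Q q) (hQ : Nat.card Q = 2 ^ 9) (H : Hy D.Γ c μ) (T : Tw μ) (h : k1 * k2 ∈ St μ v)
    (v0 : v ≠ 0) {g : G} (cz : Commute z (g * z * g⁻¹)) : g * z * g⁻¹ = z := by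
  have := D.finite
  obtain ⟨c1, c2, b, n, qn, hn, un⟩ := plane D.nd (D.card_V' hQ) H.c3 H.c1 H.cm H.inj T h v0
  refine D.no_conj hQ (fun x hx k => ?_) qn (fun g hg => (un _ ?_ fun σ => ?_).resolve_left
    (O.apply_ne_zero g (ne_zero_of_Q_ne_zero qn))) cz
  rotate_left
  · have := H.nc _ (inv_mem hg)
    rw [inv_inv] at this
    rw [← O.inv_apply_eq, ← O.mul_apply, ← O.mul_apply]
    rcases this with e | e <;> simp only [e, O.mul_apply, hn.1]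
  · obtain ⟨b, e⟩ := H.nm _ (inv_mem hg)
    rw [inv_inv] at e
    rw [mem_St, ← O.inv_apply_eq, ← O.mul_apply, ← O.mul_apply, e]
    exact hn.2 _
  obtain ⟨g, rfl⟩ := isConj_iff.1 k
  by_contra ne
  have h := D.lg.pr hx ne
  have D' := D.cj g
  have hR := (Core.card_map_conj g Q).trans hQ
  generalize g * z * g⁻¹ = s, Q.map (MulAut.conj g).toMonoidHom = R at h D' hR
  by_cases e : c.1 (D.π s) = D.π s
  · have := (D.img_fix h (D.chain h D' H.cΓ e (fun k hk => (mul_inv_eq_iff_eq_mul.1 ((H.nc k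
      (D.img_le hk)).resolve_right fun k => H.c1 (D.comm_three h H.cΓ H.c3 e hk k))).symm) fun v hv =>
        vadd_eq_zero.1 (by_contra fun n => aniso D.nd H.c3 c2 ((mem_comm3 H.c3).1 (vsub (c.1 v) v ▸
          O.sub_mem_comm c v)) n (D.sing h (add_mem (D.apply_mem_sub h H.cΓ e hv) hv))))).1
    have c3 := H.c3
    rw [show c ^ 4 = c * c * c * c by simp [pow_succ], c3, one_mul] at this
    rw [this, one_mul] at c3
    exact H.c1 c3
  obtain ⟨y, hy⟩ := D.nd.exists_polar_ne (mt vadd_eq_zero.1 e)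
  obtain ⟨y, rfl⟩ := c.1.surjective y
  rw [polar_add_left, O.map_polar, ← polar_add_right, add_comm] at hy
  obtain ⟨f, hf⟩ := H.i4
  obtain ⟨_, he, ⟨σ, rfl⟩, e1⟩ := D.exists_ne h hQ hR μ.range f fun a ha b hb e => hf a (D.img_le ha) b
    (D.img_le hb) e (D.img_fix h (mul_mem (inv_mem ha) hb)).1
  obtain ⟨r, hr⟩ := invol' σ (H.inj (by rw [map_mul, (D.img_fix h he).1, map_one])) fun k => e1 (k ▸ map_one μ)
  obtain ⟨w, hw⟩ : ∃ w, q ((μ σ).1 w + w) ≠ 0 := by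
    obtain ⟨u, hu, u0⟩ := (Submodule.ne_bot_iff (O.comm (μ k1))).1 fun k => by simp [k] at c1
    have s3 := μ_cube (μ := μ) k1_cube
    have p := (mem_comm3 s3).1 hu
    have e : ∀ v, (μ n0).1 ((μ k1).1 v) = (μ k1).1 ((μ k1).1 ((μ n0).1 v)) := fun v => by
      rw [← μ_mul, ← μ_mul, ← μ_mul, show n0 * k1 = k1 * k1 * n0 by decide +kernel]
    have p' : ∀ {u}, Pj (μ k1) u = 0 → Pj (μ k1) ((μ n0).1 u + u) = 0 := fun {u} p => by
      rw [map_add, p, add_zero, Pj_apply, ← e, ← cube_apply s3 ((μ k1).1 _), ← e, ← e, ← map_add, ← map_add,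
        add_right_comm, ← Pj_apply, p, map_zero]
    obtain ⟨w, hw⟩ : ∃ w, q ((μ n0).1 w + w) ≠ 0 := by
      by_cases k : (μ n0).1 u = u
      · refine ⟨_, aniso D.nd s3 c1 (p' (u := (μ k1).1 u) (by rw [← Pj_comm rfl, p, map_zero])) ?_⟩
        rwa [e, k, tt p, add_right_comm, vadd_self, zero_add]
      · exact ⟨_, aniso D.nd s3 c1 (p' p) (mt vadd_eq_zero.1 k)⟩
    refine ⟨(μ (sw 2 4 3 5 * r)⁻¹).1 w, ?_⟩
    rwa [← O.map_Q (μ (sw 2 4 3 5 * r)), map_add, ← μ_mul, ← μ_mul, ← μ_mul, mul_inv_cancel, map_one, O.one_apply,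
      show sw 2 4 3 5 * r * σ * (sw 2 4 3 5 * r)⁻¹ = sw 2 4 3 5 * (r * σ * r⁻¹) * (sw 2 4 3 5)⁻¹ by group, hr,
      show sw 2 4 3 5 * v1 * (sw 2 4 3 5)⁻¹ = n0 by decide +kernel]
  by_cases k : polar q (D.π s) w = 0
  · exact hw (D.sing h (D.cross h he k))
  · have := D.sing h (D.cross h he (v := w + (c.1 y + y)) (by rw [polar_add_right, z2_ne.1 k, z2_ne.1 hy]; rfl))
    rw [map_add (μ σ).1, mem_St.1 (b σ y), add_add_add_comm, vadd_self, add_zero] at this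
    exact hw this

end Cfsg.Lib.S36
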